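import Mathlib
import Cfsg.Prelude.Def_Transfer
import Cfsg.Prelude.Def_CaseTheorems
import Cfsg.Agent.Components.Cores
import Cfsg.Agent.Components.Misc.Zsigmondy
import Cfsg.Agent.Classical.Misc.SLTwoTori
import Cfsg.Agent.Classical.Misc.SmallPSL

/-!
Lower bounds for the index of a fixed-point space: if two conjugates of `s` generate an element
whose order is divisible by a primitive prime divisor of `p ^ d - 1`, the square of the index of
`C_V(s)` is at least `p ^ d`. Application to groups with a quotient `PSL(2, q)`.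
-/

set_option linter.unusedSectionVars false
set_option linter.style.haveILetI false

namespace Cfsg.Lib.Components.IndexBound

section Abstract

variable {G : Type*} [Group G] [Finite G]

theorem exists_pow_orderOf {x : G} {n : ℕ} (hn : n ∣ orderOf x) :
    ∃ i : ℕ, orderOf (x ^ i) = n := by
  refine ⟨orderOf x / n, ?_⟩
  have h0 : orderOf x ≠ 0 := (orderOf_pos x).ne'
  rw [orderOf_pow, Nat.gcd_eq_right (Nat.div_dvd_of_dvd hn), Nat.div_div_self hn h0]

/-- An element of order `r ^ k`, with `r ^ k` not dividing `p ^ i - 1` for `0 < i < d`, that fixes a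
subgroup of index less than `p ^ d` in an elementary abelian `p`-group has a fixing power. -/
theorem centralizes_of_small {p r k d : ℕ} [Fact p.Prime] (hr : r.Prime) (hrp : r ≠ p) (hk : 0 < k)
    (hrd : ∀ i, 0 < i → i < d → ¬ r ^ k ∣ p ^ i - 1) (V W : Subgroup G)
    (hV : Cfsg.IsElementaryAbelian p V) (hWV : W ≤ V) (h : G) (hh : orderOf h = r ^ k)
    (hVn : h ∈ Subgroup.normalizer (V : Set G)) (hW : h ∈ Subgroup.centralizer (W : Set G))
    (hidx : W.relIndex V < p ^ d) :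
    h ^ r ^ (k - 1) ∈ Subgroup.centralizer (V : Set G) := by
  classical
  have hp : p.Prime := Fact.out
  have hpV : IsPGroup p V := fun v => ⟨1, by
    rw [pow_one]
    exact Subtype.ext (hV.2 v v.2)⟩
  set c := h ^ r ^ (k - 1) with hc
  set F := V ⊓ Subgroup.centralizer ({c} : Set G) with hF
  by_contra hcon
  have hWF : W ≤ F := fun w hw => Subgroup.mem_inf.2 ⟨hWV hw,
    Subgroup.mem_centralizer_singleton_iff.2
      (Subgroup.mem_centralizer_iff.1 (pow_mem hW _) w hw)⟩
  obtain ⟨j, hj⟩ := hpV.exists_card_eq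
  obtain ⟨i, hi⟩ : ∃ i, Nat.card F = p ^ i :=
    (hpV.to_le (inf_le_left : F ≤ V)).exists_card_eq
  have hFV : F ≤ V := inf_le_left
  have hij : i ≤ j := (Nat.pow_dvd_pow_iff_le_right hp.one_lt).1
    (hi ▸ hj ▸ Subgroup.card_dvd_of_le hFV)
  have hlt : i < j := lt_of_le_of_ne hij fun e => hcon (by
    have hFeq : F = V := Subgroup.eq_of_le_of_card_ge hFV (by rw [hi, hj, e])
    refine Subgroup.mem_centralizer_iff.2 fun v hv => ?_
    exact Subgroup.mem_centralizer_singleton_iff.1 (Subgroup.mem_inf.1 (hFeq.symm ▸ hv : v ∈ F)).2)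
  have hd : j - i < d := by
    have h1 : F.relIndex V * Nat.card F = Nat.card V := by
      rw [← Subgroup.relIndex_bot_left (H := F), ← Subgroup.relIndex_bot_left (H := V), mul_comm]
      exact Subgroup.relIndex_mul_relIndex ⊥ F V bot_le hFV
    have h2 : F.relIndex V ≤ W.relIndex V :=
      Nat.le_of_dvd (Nat.pos_of_ne_zero Subgroup.index_ne_zero_of_finite)
        (Subgroup.relIndex_dvd_of_le_left V hWF)
    rw [hi, hj, show p ^ j = p ^ (j - i) * p ^ i by rw [← pow_add, Nat.sub_add_cancel hij]] at h1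
    have h3 := Nat.eq_of_mul_eq_mul_right (pow_pos hp.pos i) h1
    exact (Nat.pow_lt_pow_iff_right hp.one_lt).1 (h3 ▸ lt_of_le_of_lt h2 hidx)
  -- the points moved by `c` fall into regular orbits of `⟨h⟩`
  let K := Subgroup.zpowers h
  have hKV : ∀ g ∈ K, ∀ v ∈ V, g * v * g⁻¹ ∈ V := fun g hg v hv =>
    (Subgroup.mem_normalizer_iff.1 (Subgroup.zpowers_le.2 hVn hg) v).1 hv
  have hKc : ∀ g ∈ K, g * c = c * g := by
    intro g hg
    obtain ⟨z, rfl⟩ := Subgroup.mem_zpowers_iff.1 hg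
    exact ((Commute.zpow_self h z).pow_right _).eq
  have hKF : ∀ g ∈ K, ∀ v, v ∈ V → v ∉ F → g * v * g⁻¹ ∉ F := by
    intro g hg v hv hvF hmem
    refine hvF (Subgroup.mem_inf.2 ⟨hv, Subgroup.mem_centralizer_singleton_iff.2 ?_⟩)
    have h1 := Subgroup.mem_centralizer_singleton_iff.1 (Subgroup.mem_inf.1 hmem).2
    have h2 : g * (v * c) * g⁻¹ = g * (c * v) * g⁻¹ := by
      calc g * (v * c) * g⁻¹ = (g * v * g⁻¹) * (g * c * g⁻¹) := by group
        _ = (g * v * g⁻¹) * c := by rw [hKc g hg, mul_inv_cancel_right]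
        _ = c * (g * v * g⁻¹) := h1
        _ = (g * c * g⁻¹) * (g * v * g⁻¹) := by rw [hKc g hg, mul_inv_cancel_right]
        _ = g * (c * v) * g⁻¹ := by group
    exact mul_left_cancel (mul_right_cancel h2)
  let S := {v : G // v ∈ V ∧ v ∉ F}
  letI : MulAction K S :=
    { smul := fun g v => ⟨(g : G) * v.1 * (g : G)⁻¹, hKV _ g.2 _ v.2.1, hKF _ g.2 _ v.2.1 v.2.2⟩
      one_smul := fun v => Subtype.ext (by show (1 : G) * v.1 * (1 : G)⁻¹ = v.1; group)
      mul_smul := fun a b v => Subtype.ext (by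
        show ((a : G) * b) * v.1 * ((a : G) * b)⁻¹ = a * (b * v.1 * (b : G)⁻¹) * (a : G)⁻¹
        group) }
  have hfree : ∀ v : S, MulAction.stabilizer K v = ⊥ := by
    intro v
    rw [Subgroup.eq_bot_iff_forall]
    rintro ⟨g, hg⟩ hgv
    have hgv' : g * v.1 * g⁻¹ = v.1 := congrArg Subtype.val (MulAction.mem_stabilizer_iff.1 hgv)
    refine Subtype.ext ?_
    show g = 1
    by_contra hg1
    have hgC : g ∈ Subgroup.centralizer ({v.1} : Set G) :=
      Subgroup.mem_centralizer_singleton_iff.2 (mul_inv_eq_iff_eq_mul.1 hgv')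
    have hgo : orderOf g ∣ r ^ k := hh ▸ orderOf_dvd_of_mem_zpowers hg
    obtain ⟨e, he, hge⟩ := (Nat.dvd_prime_pow hr).1 hgo
    have he0 : e ≠ 0 := fun e0 => hg1 (orderOf_eq_one_iff.1 (by rw [hge, e0, pow_zero]))
    have hcg : c ∈ Subgroup.zpowers g := by
      have hle : Subgroup.zpowers g ≤ K := Subgroup.zpowers_le.2 hg
      have hcard : Nat.card (Subgroup.zpowers g) = r ^ e := by rw [Nat.card_zpowers, hge]
      have hcK : Subgroup.zpowers g = Subgroup.zpowers (h ^ r ^ (k - e)) := by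
        obtain ⟨n, rfl⟩ := mem_powers_iff_mem_zpowers.2 hg
        have hpow : (h ^ n) ^ r ^ e = 1 := by rw [← hge, pow_orderOf_eq_one]
        rw [← pow_mul, ← orderOf_dvd_iff_pow_eq_one, hh,
          show r ^ k = r ^ (k - e) * r ^ e by rw [← pow_add, Nat.sub_add_cancel he]] at hpow
        obtain ⟨m, rfl⟩ := Nat.dvd_of_mul_dvd_mul_right (pow_pos hr.pos e) hpow
        refine Subgroup.eq_of_le_of_card_ge (Subgroup.zpowers_le.2 ?_) ?_
        · show h ^ _ ∈ _
          rw [pow_mul]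
          exact Subgroup.npow_mem_zpowers _ _
        · rw [hcard, Nat.card_zpowers, orderOf_pow, hh, Nat.gcd_eq_right (pow_dvd_pow r (Nat.sub_le _ _)),
            Nat.pow_div (Nat.sub_le _ _) hr.pos, Nat.sub_sub_self he]
      rw [hcK, hc, show k - 1 = (k - e) + (e - 1) by omega, pow_add, pow_mul]
      exact Subgroup.npow_mem_zpowers _ _
    exact v.2.2 (Subgroup.mem_inf.2 ⟨v.2.1, Subgroup.mem_centralizer_singleton_iff.2
      (Subgroup.mem_centralizer_singleton_iff.1 (Subgroup.zpowers_le.2 hgC hcg)).symm⟩)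
  have hdvd : r ^ k ∣ Nat.card S := by
    rw [Nat.card_congr (MulAction.selfEquivOrbitsQuotientProd hfree), Nat.card_prod,
      Nat.card_zpowers, hh]
    exact dvd_mul_left _ _
  have hS : Nat.card S + Nat.card F = Nat.card V := by
    have e1 : S = ↥((V : Set G) \ (F : Set G)) := rfl
    rw [Nat.card_congr (Equiv.cast e1), Nat.card_coe_set_eq, ← SetLike.coe_sort_coe,
      Nat.card_coe_set_eq, ← SetLike.coe_sort_coe, Nat.card_coe_set_eq]
    exact Set.ncard_sdiff_add_ncard_of_subset hFV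
  have hSv : Nat.card S = p ^ i * (p ^ (j - i) - 1) := by
    rw [Nat.mul_sub_one, ← pow_add, Nat.add_sub_cancel' hij]
    omega
  rw [hSv] at hdvd
  exact hrd (j - i) (Nat.sub_pos_of_lt hlt) hd
    (((((Nat.coprime_primes hr hp).2 hrp).pow k i)).dvd_of_dvd_mul_left hdvd)

/-- The bound on the index of the fixed points of an element, by means of a conjugate. -/
theorem sq_bound {p r k d : ℕ} [Fact p.Prime] (hr : r.Prime) (hrp : r ≠ p) (hk : 0 < k)
    (hrd : ∀ i, 0 < i → i < d → ¬ r ^ k ∣ p ^ i - 1) (V H : Subgroup G)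
    (hV : Cfsg.IsElementaryAbelian p V) (hHV : H ≤ Subgroup.normalizer (V : Set G))
    (hf : H ⊓ Subgroup.centralizer (V : Set G) = ⊥) {s g : G} (hs : s ∈ H) (hg : g ∈ H)
    {x : G} (hx : x ∈ Subgroup.closure ({s, g * s * g⁻¹} : Set G)) (hxo : r ^ k ∣ orderOf x) :
    p ^ d ≤ ((V ⊓ Subgroup.centralizer ({s} : Set G)).relIndex V) ^ 2 ∧ p ^ d ≤ Nat.card V := by
  classical
  set b := g * s * g⁻¹ with hb
  have hbH : b ∈ H := mul_mem (mul_mem hg hs) (inv_mem hg)
  set C₁ := V ⊓ Subgroup.centralizer ({s} : Set G)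
  set C₂ := V ⊓ Subgroup.centralizer ({b} : Set G)
  have hconj : C₂.relIndex V = C₁.relIndex V := by
    have hVg : V.map (MulAut.conj g).toMonoidHom = V := by
      ext v
      simp only [Subgroup.mem_map, MulEquiv.coe_toMonoidHom, MulAut.conj_apply]
      refine ⟨?_, fun hv => ⟨g⁻¹ * v * g, ?_, by group⟩⟩
      · rintro ⟨w, hw, rfl⟩
        exact (Subgroup.mem_normalizer_iff.1 (hHV hg) w).1 hw
      · refine (Subgroup.mem_normalizer_iff.1 (hHV hg) _).2 ?_
        rwa [show g * (g⁻¹ * v * g) * g⁻¹ = v by group]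
    have hCg : C₁.map (MulAut.conj g).toMonoidHom = C₂ := by
      rw [Subgroup.map_inf _ _ _ (MulAut.conj g).injective, hVg]
      congr 1
      ext v
      simp only [Subgroup.mem_map, MulEquiv.coe_toMonoidHom, MulAut.conj_apply,
        Subgroup.mem_centralizer_singleton_iff]
      refine ⟨?_, fun hv => ⟨g⁻¹ * v * g, ?_, by group⟩⟩
      · rintro ⟨w, hw, rfl⟩
        rw [hb, show g * w * g⁻¹ * (g * s * g⁻¹) = g * (w * s) * g⁻¹ by group, hw]
        group
      · rw [hb] at hv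
        have := congrArg (fun z => g⁻¹ * z * g) hv
        simpa [mul_assoc] using this
    rw [← hCg]
    conv_lhs => rw [← hVg]
    exact Subgroup.relIndex_map_map_of_injective _ _ (MulAut.conj g).injective
  have hW : p ^ d ≤ (C₁ ⊓ C₂).relIndex V := by
    by_contra hlt
    rw [not_le] at hlt
    obtain ⟨n, hn⟩ := exists_pow_orderOf hxo
    set y := x ^ n with hy
    have hxH : x ∈ H := by
      refine (Subgroup.closure_le H).2 ?_ hx
      rintro z (rfl | rfl)
      exacts [hs, hbH]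
    have hyH : y ∈ H := pow_mem hxH n
    have hyW : y ∈ Subgroup.centralizer ((C₁ ⊓ C₂ : Subgroup G) : Set G) := by
      refine pow_mem ((Subgroup.closure_le _).2 ?_ hx) n
      rintro z (rfl | rfl)
      · exact Subgroup.mem_centralizer_iff.2 fun w hw => Subgroup.mem_centralizer_singleton_iff.1
          (Subgroup.mem_inf.1 (Subgroup.mem_inf.1 hw).1).2
      · exact Subgroup.mem_centralizer_iff.2 fun w hw => Subgroup.mem_centralizer_singleton_iff.1
          (Subgroup.mem_inf.1 (Subgroup.mem_inf.1 hw).2).2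
    have hc := centralizes_of_small hr hrp hk hrd V (C₁ ⊓ C₂) hV
      (inf_le_left.trans inf_le_left) y hn (hHV hyH) hyW hlt
    have h1 : y ^ r ^ (k - 1) ∈ H ⊓ Subgroup.centralizer (V : Set G) :=
      Subgroup.mem_inf.2 ⟨pow_mem hyH _, hc⟩
    rw [hf, Subgroup.mem_bot] at h1
    have h2 := orderOf_dvd_of_pow_eq_one h1
    rw [hn, Nat.pow_dvd_pow_iff_le_right hr.one_lt] at h2
    omega
  refine ⟨?_, hW.trans (Nat.le_of_dvd Nat.card_pos (Subgroup.index_dvd_card _ |>.trans ?_))⟩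
  · refine hW.trans ((Subgroup.relIndex_inf_le).trans ?_)
    rw [hconj, sq]
  · exact dvd_rfl

end Abstract

/-! ### Products of two conjugate transvections -/

section SL

variable {F : Type*} [Field F]

local notation "SL2" => Matrix.SpecialLinearGroup (Fin 2) F

theorem cayley (M : SL2) : (M : Matrix (Fin 2) (Fin 2) F) * M =
    (M 0 0 + M 1 1) • (M : Matrix (Fin 2) (Fin 2) F) - 1 := by
  have hd := M.2
  rw [Matrix.det_fin_two] at hd
  ext i j
  fin_cases i <;> fin_cases j <;>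
    simp [Matrix.mul_apply, Fin.sum_univ_two] <;> grind

theorem pow_linear (t : F) : ∀ n : ℕ, ∃ a b : F, ∀ M : SL2, M 0 0 + M 1 1 = t →
    ((M ^ n : SL2) : Matrix (Fin 2) (Fin 2) F) =
      a • (M : Matrix (Fin 2) (Fin 2) F) + b • (1 : Matrix (Fin 2) (Fin 2) F) := by
  intro n
  induction n with
  | zero => exact ⟨0, 1, fun M _ => by simp⟩
  | succ n ih =>
    obtain ⟨a, b, hab⟩ := ih
    refine ⟨a * t + b, -a, fun M hM => ?_⟩
    rw [pow_succ, Matrix.SpecialLinearGroup.coe_mul, hab M hM, add_mul, smul_mul_assoc,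
      smul_mul_assoc, one_mul, cayley, hM, smul_sub, smul_smul, add_smul, neg_smul]
    abel

theorem eq_one_iff (t : F) (n : ℕ) {M N : SL2} (hM : M 0 0 + M 1 1 = t) (hN : N 0 0 + N 1 1 = t)
    (hM' : ¬ (M 0 1 = 0 ∧ M 1 0 = 0 ∧ M 0 0 = M 1 1))
    (h : M ^ n = 1) : N ^ n = 1 := by
  obtain ⟨a, b, hab⟩ := pow_linear t n
  have h1 := hab M hM
  rw [h, Matrix.SpecialLinearGroup.coe_one] at h1
  have e00 := congrFun (congrFun h1 0) 0
  have e01 := congrFun (congrFun h1 0) 1
  have e10 := congrFun (congrFun h1 1) 0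
  have e11 := congrFun (congrFun h1 1) 1
  simp at e00 e01 e10 e11
  have ha : a = 0 := by
    by_contra ha
    refine hM' ⟨e01.resolve_left ha, e10.resolve_left ha, mul_left_cancel₀ ha ?_⟩
    linear_combination e11 - e00
  subst ha
  apply Subtype.ext
  rw [hab N hN, Matrix.SpecialLinearGroup.coe_one, zero_smul, zero_add]
  rw [zero_mul, zero_add] at e00
  rw [← e00, one_smul]

theorem exists_sl {a b c d : F} (h : a * d - b * c = 1) :
    ∃ A : SL2, A 0 0 = a ∧ A 0 1 = b ∧ A 1 0 = c ∧ A 1 1 = d :=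
  ⟨⟨!![a, b; c, d], by rw [Matrix.det_fin_two]; simpa using h⟩, rfl, rfl, rfl, rfl⟩

theorem upper_conj [Fintype F] {p n : ℕ} [Fact p.Prime] [CharP F p] (hF : Fintype.card F = p ^ n)
    {u : SL2} (hu : ∃ j, u ^ p ^ j = 1) :
    ∃ c : SL2, ∃ lam : F, (c⁻¹ * u * c) 0 0 = 1 ∧ (c⁻¹ * u * c) 0 1 = lam ∧
      (c⁻¹ * u * c) 1 0 = 0 ∧ (c⁻¹ * u * c) 1 1 = 1 := by
  classical
  have hp : p.Prime := Fact.out
  let f : Multiplicative F →* SL2 :=
    { toFun := fun x => ⟨!![1, x.toAdd; 0, 1], by rw [Matrix.det_fin_two]; simp⟩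
      map_one' := by ext i j; fin_cases i <;> fin_cases j <;> simp
      map_mul' := fun x y => by
        apply Subtype.ext
        show !![1, (x * y).toAdd; 0, 1] = (!![1, x.toAdd; 0, 1] * !![1, y.toAdd; 0, 1] : Matrix (Fin 2) (Fin 2) F)
        ext i j
        fin_cases i <;> fin_cases j <;> simp [Matrix.mul_apply, Fin.sum_univ_two, add_comm] }
  have hfi : Function.Injective f := fun x y hxy => by
    have h2 : x.toAdd = y.toAdd := congrArg (fun A : SL2 => A 0 1) hxy
    exact Multiplicative.toAdd.injective h2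
  have hcard : Nat.card f.range = p ^ n := by
    rw [← Nat.card_congr (MonoidHom.ofInjective hfi).toEquiv,
      Nat.card_congr (Multiplicative.toAdd (α := F)), Nat.card_eq_fintype_card, hF]
  have hfac : (Nat.card SL2).factorization p = n := by
    rw [Cfsg.Lib.Classical.SLTwoTori.card_SL2, hF]
    have hn0 : n ≠ 0 := fun e => by
      have := Fintype.one_lt_card (α := F)
      rw [hF, e, pow_zero] at this
      omega
    have hq : 1 < p ^ n := Nat.one_lt_pow hn0 hp.one_lt
    have hq2 : 1 ≤ (p ^ n) ^ 2 := Nat.one_le_pow _ _ (by omega)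
    have hnd : ¬ p ∣ (p ^ n) ^ 2 - 1 := by
      intro hd
      have h2 : p ∣ (p ^ n) ^ 2 := dvd_pow (dvd_pow_self p hn0) two_ne_zero
      have h3 := Nat.dvd_sub h2 hd
      rw [Nat.sub_sub_self hq2] at h3
      exact hp.not_dvd_one h3
    have h0 : (p ^ n) ^ 2 - 1 ≠ 0 := fun e => hnd (e ▸ dvd_zero p)
    rw [Nat.factorization_mul (by omega) h0, Finsupp.add_apply, hp.factorization_pow,
      Finsupp.single_eq_same, Nat.factorization_eq_zero_of_not_dvd hnd, add_zero]
  let P : Sylow p SL2 := Sylow.ofCard f.range (by rw [hcard, hfac])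
  obtain ⟨j, hj⟩ := hu
  obtain ⟨i, hi, hio⟩ := (Nat.dvd_prime_pow hp).1 (orderOf_dvd_of_pow_eq_one hj)
  obtain ⟨Q, hQ⟩ := (IsPGroup.of_card (n := i)
    (by rw [Nat.card_zpowers, hio]) : IsPGroup p (Subgroup.zpowers u)).exists_le_sylow
  obtain ⟨c, rfl⟩ := MulAction.exists_smul_eq SL2 P Q
  have hu' : u ∈ (c • P : Sylow p SL2) := hQ (Subgroup.mem_zpowers u)
  change u ∈ ((c • P : Sylow p SL2) : Subgroup SL2) at hu'
  rw [Sylow.coe_subgroup_smul, Subgroup.mem_pointwise_smul_iff_inv_smul_mem] at hu'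
  have hu'' : c⁻¹ * u * c ∈ f.range := by
    have he : c⁻¹ * u * c = (MulAut.conj c)⁻¹ • u := by simp [MulAut.smul_def, MulAut.conj_inv_apply]
    rw [he]
    exact hu'
  obtain ⟨x, hx⟩ := hu''
  refine ⟨c, x.toAdd, ?_⟩
  rw [← hx]
  refine ⟨rfl, rfl, rfl, rfl⟩

/-- For every element `h₀` of odd prime-power order there is a conjugate of the unipotent `u` such
that the product with `u` has order divisible by that of `h₀`. -/
theorem exists_product [Fintype F] {p n r k : ℕ} [Fact p.Prime] [CharP F p]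
    (hF : Fintype.card F = p ^ n) (hr : r.Prime) (hr2 : r ≠ 2) (hk : 0 < k) (h₀ : SL2)
    (hh₀ : orderOf h₀ = r ^ k) {u : SL2} (hu : ∃ j, u ^ p ^ j = 1) (hu1 : u ≠ 1) :
    ∃ g : SL2, r ^ k ∣ orderOf (QuotientGroup.mk (u * (g * u * g⁻¹)) :
      Matrix.ProjectiveSpecialLinearGroup (Fin 2) F) := by
  classical
  obtain ⟨c, lam, e00, e01, e10, e11⟩ := upper_conj hF hu
  set A := c⁻¹ * u * c with hA
  have hlam : lam ≠ 0 := by
    rintro rfl
    refine hu1 ?_
    have h1 : A = 1 := by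
      ext i j
      fin_cases i <;> fin_cases j <;> simp [e00, e01, e10, e11]
    rw [hA] at h1
    calc u = c * (c⁻¹ * u * c) * c⁻¹ := by group
      _ = 1 := by rw [h1]; group
  have hodd : Odd (r ^ k) := (hr.odd_of_ne_two hr2).pow
  obtain ⟨m₀, hm₀⟩ := hodd
  set h₁ := h₀ ^ (m₀ + 1) with hh₁
  have hsq : h₁ * h₁ = h₀ := by
    rw [hh₁, ← pow_add, show m₀ + 1 + (m₀ + 1) = r ^ k + 1 by omega, pow_succ, ← hh₀,
      pow_orderOf_eq_one, one_mul]
  set ν := h₁ 0 0 + h₁ 1 1 with hν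
  have htr : h₀ 0 0 + h₀ 1 1 = ν ^ 2 - 2 := by
    have h1 := cayley h₁
    rw [← Matrix.SpecialLinearGroup.coe_mul, hsq] at h1
    have a := congrFun (congrFun h1 0) 0
    have b := congrFun (congrFun h1 1) 1
    simp at a b
    rw [a, b, hν]
    ring
  have h3 : 3 ≤ r ^ k := by
    have := hr.two_le
    exact le_trans (by omega : 3 ≤ r) (Nat.le_self_pow hk.ne' r)
  have hsc : ¬ (h₀ 0 1 = 0 ∧ h₀ 1 0 = 0 ∧ h₀ 0 0 = h₀ 1 1) := by
    rintro ⟨a, b, e⟩
    have hd := h₀.2
    rw [Matrix.det_fin_two, a, b, ← e, mul_zero, sub_zero] at hd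
    have h2 : h₀ ^ 2 = 1 := by
      ext i j
      fin_cases i <;> fin_cases j <;>
        simp [pow_two, Matrix.mul_apply, Fin.sum_univ_two, a, b, ← e, hd]
    have := Nat.le_of_dvd two_pos (orderOf_dvd_of_pow_eq_one h2)
    omega
  have hν0 : ν ≠ 0 := by
    intro hν'
    have h1 := cayley h₁
    rw [← Matrix.SpecialLinearGroup.coe_mul, hsq, ← hν, hν', zero_smul, zero_sub] at h1
    refine hsc ⟨?_, ?_, ?_⟩ <;> simp [h1]
  set μ := lam / ν with hμ
  have hμ0 : μ ≠ 0 := div_ne_zero hlam hν0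
  obtain ⟨w, w00, w01, w10, w11⟩ := exists_sl (a := 0) (b := μ) (c := -μ⁻¹) (d := 0)
    (by simp [hμ0])
  obtain ⟨nh, n00, n01, n10, n11⟩ := exists_sl (a := -h₀ 0 0) (b := -h₀ 0 1) (c := -h₀ 1 0)
    (d := -h₀ 1 1) (by
      have hd := h₀.2
      rw [Matrix.det_fin_two] at hd
      linear_combination hd)
  set M := A * (w * A * w⁻¹) with hM
  have hMt : M 0 0 + M 1 1 = nh 0 0 + nh 1 1 := by
    have : M 0 0 + M 1 1 = 2 - ν ^ 2 := by
      simp [hM, Matrix.mul_apply, Fin.sum_univ_two, e00, e01, e10, e11, w00, w01, w10, w11,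
        Matrix.adjugate_fin_two]
      rw [hμ]
      field_simp
      ring
    rw [this, n00, n11]
    linear_combination htr
  have hMsc : ¬ (M 0 1 = 0 ∧ M 1 0 = 0 ∧ M 0 0 = M 1 1) := by
    rintro ⟨a, -, -⟩
    apply hlam
    simpa [hM, Matrix.mul_apply, Fin.sum_univ_two, e00, e01, e10, e11, w00, w01, w10, w11,
      Matrix.adjugate_fin_two, hμ0] using a
  have hnsc : ¬ (nh 0 1 = 0 ∧ nh 1 0 = 0 ∧ nh 0 0 = nh 1 1) := by
    rw [n00, n01, n10, n11, neg_eq_zero, neg_eq_zero, neg_inj]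
    exact hsc
  have hn2 : nh * nh = h₀ * h₀ := by
    ext i j
    fin_cases i <;> fin_cases j <;> simp [Matrix.mul_apply, Fin.sum_univ_two, n00, n01, n10, n11]
  have hpow2 : ∀ a : ℕ, nh ^ (2 * a) = h₀ ^ (2 * a) := fun a => by
    rw [pow_mul, pow_mul, pow_two, pow_two, hn2]
  have hMo : r ^ k ∣ orderOf M := by
    have h1 : M ^ (2 * r ^ k) = 1 := eq_one_iff _ _ rfl hMt hnsc (by
      rw [hpow2, mul_comm, pow_mul, ← hh₀, pow_orderOf_eq_one, one_pow])
    obtain ⟨a, b, ha, hb, hab⟩ := Nat.dvd_mul.1 (orderOf_dvd_of_pow_eq_one h1)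
    obtain ⟨i, hi, rfl⟩ := (Nat.dvd_prime_pow hr).1 hb
    rcases hi.eq_or_lt with rfl | hlt
    · exact hab ▸ dvd_mul_left _ _
    exfalso
    have h2 : M ^ (2 * r ^ (k - 1)) = 1 := orderOf_dvd_iff_pow_eq_one.1
      (hab ▸ mul_dvd_mul ha (pow_dvd_pow r (by omega)))
    have h3 := eq_one_iff _ _ rfl hMt.symm hMsc h2
    rw [hpow2, ← orderOf_dvd_iff_pow_eq_one, hh₀] at h3
    have h4 : r ^ k ∣ r ^ (k - 1) :=
      ((Nat.coprime_primes hr Nat.prime_two).2 hr2).pow_left k |>.dvd_of_dvd_mul_left h3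
    rw [Nat.pow_dvd_pow_iff_le_right hr.one_lt] at h4
    omega
  refine ⟨c * w * c⁻¹, ?_⟩
  have hprod : u * (c * w * c⁻¹ * u * (c * w * c⁻¹)⁻¹) = c * M * c⁻¹ := by
    rw [hM, hA]
    group
  rw [hprod]
  set o := orderOf (QuotientGroup.mk (c * M * c⁻¹) : Matrix.ProjectiveSpecialLinearGroup (Fin 2) F)
  have hz : (c * M * c⁻¹) ^ o ∈ Subgroup.center SL2 := by
    rw [← QuotientGroup.eq_one_iff, QuotientGroup.mk_pow]
    exact pow_orderOf_eq_one _
  have hz2 : ((c * M * c⁻¹) ^ o) ^ 2 = 1 := by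
    obtain ⟨z, hzp, hze⟩ := Matrix.SpecialLinearGroup.mem_center_iff.1 hz
    rw [Fintype.card_fin] at hzp
    apply Subtype.ext
    rw [Matrix.SpecialLinearGroup.coe_pow, ← hze, Matrix.SpecialLinearGroup.coe_one]
    simp [pow_two, ← pow_two z, hzp]
  rw [← pow_mul, conj_pow, conj_eq_one_iff] at hz2
  exact ((Nat.coprime_primes hr Nat.prime_two).2 hr2).pow_left k |>.dvd_of_dvd_mul_right
    (hMo.trans (orderOf_dvd_of_pow_eq_one hz2))

/-- A witness of order nine in `SL(2, 8)`. -/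
theorem exists_order_nine [Fintype F] [CharP F 2] (hF : Fintype.card F = 8) :
    ∃ M : SL2, orderOf M = 9 := by
  classical
  have h2 : (2 : F) = 0 := CharTwo.two_eq_zero
  obtain ⟨t, ht⟩ : ∃ t : F, t ^ 3 + t + 1 = 0 := by
    obtain ⟨x, hx⟩ : ∃ x : F, x ∉ ({0, 1} : Finset F) := by
      by_contra! hall
      have := Finset.card_le_card (s := (Finset.univ : Finset F)) (t := {0, 1}) fun y _ => hall y
      rw [Finset.card_univ, hF] at this
      exact absurd (this.trans Finset.card_le_two) (by norm_num)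
    simp only [Finset.mem_insert, Finset.mem_singleton, not_or] at hx
    have h7 : x ^ 7 = 1 := by
      have := FiniteField.pow_card_sub_one_eq_one x hx.1
      rwa [hF] at this
    have hfac : (x - 1) * (x ^ 3 + x + 1) * (x ^ 3 + x ^ 2 + 1) = 0 := by
      linear_combination h7 + (x ^ 4 - x ^ 3) * h2
    rcases mul_eq_zero.1 hfac with h | h
    · rcases mul_eq_zero.1 h with h | h
      · exact absurd (sub_eq_zero.1 h) hx.2
      · exact ⟨x, h⟩
    · refine ⟨x⁻¹, ?_⟩
      have h0 := hx.1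
      field_simp
      linear_combination h
  obtain ⟨M, m00, m01, m10, m11⟩ := exists_sl (a := t) (b := 1) (c := 1) (d := 0)
    (by linear_combination -h2)
  refine ⟨M, ?_⟩
  have hc := cayley M
  rw [m00, m11, add_zero] at hc
  have hne : M ^ 3 ≠ 1 := by
    intro h
    have h' := congrArg (fun A : SL2 => A 0 1) h
    simp [pow_succ, Matrix.mul_apply, Fin.sum_univ_two, m00, m01, m10, m11] at h'
    have ht2 : t * t = 1 := by linear_combination h' - h2
    have : (1 : F) = 0 := by linear_combination ht - t * ht2 - t * h2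
    exact one_ne_zero this
  have h9 : M ^ 9 = 1 := by
    obtain ⟨N, hN⟩ : ∃ N : SL2, N = M ^ 3 := ⟨_, rfl⟩
    have n00 : N 0 0 = t ^ 3 + 2 * t := by
      rw [hN]; simp [pow_succ, Matrix.mul_apply, Fin.sum_univ_two, m00, m01, m10, m11]; ring
    have n11 : N 1 1 = t := by
      rw [hN]; simp [pow_succ, Matrix.mul_apply, Fin.sum_univ_two, m00, m01, m10, m11]
    have hNt : N 0 0 + N 1 1 = -1 := by rw [n00, n11]; linear_combination ht + t * h2
    have hc := cayley N
    rw [hNt] at hc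
    have hN3 : N ^ 3 = 1 := by
      apply Subtype.ext
      rw [Matrix.SpecialLinearGroup.coe_pow, Matrix.SpecialLinearGroup.coe_one, pow_succ, pow_two,
        hc, sub_mul, smul_mul_assoc, hc, one_mul]
      simp
    rw [show 9 = 3 * 3 by norm_num, pow_mul, ← hN]
    exact hN3
  exact orderOf_eq_prime_pow (p := 3) (n := 1) (by simpa using hne) (by simpa using h9)

theorem exists_primitive [Fintype F] {p n : ℕ} [Fact p.Prime] [CharP F p]
    (hF : Fintype.card F = p ^ n) (hn : 2 ≤ n) :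
    ∃ r k : ℕ, r.Prime ∧ r ≠ p ∧ r ≠ 2 ∧ 0 < k ∧
      (∀ i, 0 < i → i < 2 * n → ¬ r ^ k ∣ p ^ i - 1) ∧ ∃ h : SL2, orderOf h = r ^ k := by
  classical
  have hp : p.Prime := Fact.out
  by_cases h6 : p = 2 ∧ 2 * n = 6
  · obtain ⟨rfl, h3⟩ := h6
    obtain rfl : n = 3 := by omega
    refine ⟨3, 2, Nat.prime_three, by norm_num, by norm_num, by norm_num, ?_,
      by simpa using exists_order_nine (F := F) (by simpa using hF)⟩
    intro i hi0 hi6
    interval_cases i <;> norm_num
  · obtain ⟨r, hr, hrdvd, hrprim⟩ := Cfsg.Lib.Zsigmondy.zsigmondy p (2 * n) hp.one_lt (by omega) h6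
      (fun h => by omega)
    have hrp : r ≠ p := by
      rintro rfl
      have h2 : r ∣ r ^ (2 * n) := dvd_pow_self r (by omega)
      have h3 := Nat.dvd_sub h2 hrdvd
      rw [Nat.sub_sub_self (Nat.one_le_pow _ _ hp.pos)] at h3
      exact hp.not_dvd_one h3
    have hr2 : r ≠ 2 := by
      rintro rfl
      refine hrprim 1 one_pos (by omega) ?_
      rw [pow_one]
      have hodd := hp.eq_two_or_odd
      omega
    haveI : Fact r.Prime := ⟨hr⟩
    obtain ⟨h, hh⟩ := exists_prime_orderOf_dvd_card' (G := SL2) r (by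
      rw [Cfsg.Lib.Classical.SLTwoTori.card_SL2, hF, ← pow_mul, mul_comm n 2]
      exact hrdvd.mul_left _)
    exact ⟨r, 1, hr, hrp, hr2, one_pos, fun i h0 hi => by rw [pow_one]; exact hrprim i h0 hi,
      h, by rw [hh, pow_one]⟩

end SL

/-! ### Groups mapping onto `PSL(2, q)` -/

section PSL

variable {G : Type*} [Group G] [Finite G] {F : Type*} [Field F] [Fintype F]

/-- If `H` maps onto `PSL(2, q)` and the `p`-element `s` maps to a non-identity element, the index
of `C_V(s)` is at least `q`, and `|V| ≥ q²`. -/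
theorem psl_bound {p n : ℕ} [Fact p.Prime] (hF : Fintype.card F = p ^ n) (hn : 2 ≤ n)
    (V H : Subgroup G) (hV : Cfsg.IsElementaryAbelian p V)
    (hHV : H ≤ Subgroup.normalizer (V : Set G))
    (hf : H ⊓ Subgroup.centralizer (V : Set G) = ⊥)
    (φ : H →* Matrix.ProjectiveSpecialLinearGroup (Fin 2) F) (hφ : Function.Surjective φ)
    (s : H) (hs : ∃ j, orderOf s = p ^ j) (hs1 : φ s ≠ 1) :
    p ^ n ≤ (V ⊓ Subgroup.centralizer ({(s : G)} : Set G)).relIndex V ∧
      p ^ (2 * n) ≤ Nat.card V := by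
  classical
  have hp : p.Prime := Fact.out
  haveI : CharP F p := by
    haveI := CharP.exists F
    obtain ⟨q, hq⟩ := CharP.exists F
    haveI := hq
    obtain ⟨m, hqp, hqc⟩ := FiniteField.card F q
    have h1 : q ∣ p ^ n := by rw [← hF, hqc]; exact dvd_pow_self q m.ne_zero
    have : q = p := (Nat.prime_dvd_prime_iff_eq hqp hp).1 (hqp.dvd_of_dvd_pow h1)
    exact this ▸ hq
  obtain ⟨r, k, hr, hrp, hr2, hk, hrd, h₀, hh₀⟩ := exists_primitive hF hn
  obtain ⟨j, hj⟩ := hs
  obtain ⟨u, hu, huj⟩ : ∃ u : Matrix.SpecialLinearGroup (Fin 2) F,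
      QuotientGroup.mk u = φ s ∧ ∃ i, u ^ p ^ i = 1 := by
    obtain ⟨A, hA⟩ := QuotientGroup.mk_surjective (φ s)
    have hA1 : A ^ p ^ j ∈ Subgroup.center (Matrix.SpecialLinearGroup (Fin 2) F) := by
      rw [← QuotientGroup.eq_one_iff, QuotientGroup.mk_pow, hA, ← map_pow, ← hj,
        pow_orderOf_eq_one, map_one]
    set z := A ^ p ^ j with hz
    have hz2 : z ^ 2 = 1 := by
      obtain ⟨a, hap, hae⟩ := Matrix.SpecialLinearGroup.mem_center_iff.1 hA1
      rw [Fintype.card_fin] at hap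
      apply Subtype.ext
      rw [Matrix.SpecialLinearGroup.coe_pow, ← hae, Matrix.SpecialLinearGroup.coe_one]
      simp [pow_two, ← pow_two a, hap]
    rcases hp.eq_two_or_odd' with h2 | hodd
    · exact ⟨A, hA, j + 1, by rw [pow_succ, pow_mul, ← hz, h2, hz2]⟩
    · refine ⟨z * A, ?_, j, ?_⟩
      · rw [QuotientGroup.mk_mul, (QuotientGroup.eq_one_iff z).2 hA1, one_mul, hA]
      · obtain ⟨m, hm⟩ := hodd.pow (n := j)
        rw [Commute.mul_pow (show Commute z A from (Subgroup.mem_center_iff.1 hA1 A).symm), ← hz, hm, pow_succ, pow_mul, hz2,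
          one_pow, one_mul, ← pow_two, hz2]
  have hu1 : u ≠ 1 := by
    rintro rfl
    exact hs1 hu.symm
  obtain ⟨g, hg⟩ := exists_product hF hr hr2 hk h₀ hh₀ huj hu1
  obtain ⟨g', hg'⟩ := hφ (QuotientGroup.mk g)
  set x : H := s * (g' * s * g'⁻¹) with hx
  have hxo : r ^ k ∣ orderOf (x : G) := by
    rw [Subgroup.orderOf_coe]
    refine hg.trans ?_
    have : φ x = QuotientGroup.mk (u * (g * u * g⁻¹)) := by
      simp only [hx, map_mul, map_inv, hg', QuotientGroup.mk_mul, QuotientGroup.mk_inv, hu]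
    rw [← this]
    exact orderOf_map_dvd φ x
  obtain ⟨h1, h2⟩ := sq_bound (d := 2 * n) hr hrp hk hrd V H hV hHV hf s.2 g'.2
    (x := (x : G)) (by
      rw [hx, Subgroup.coe_mul, Subgroup.coe_mul, Subgroup.coe_mul, Subgroup.coe_inv]
      exact mul_mem (Subgroup.subset_closure (Or.inl rfl))
        (Subgroup.subset_closure (Or.inr rfl))) hxo
  refine ⟨?_, h2⟩
  rw [mul_comm 2 n, pow_mul] at h1
  exact (Nat.pow_le_pow_iff_left two_ne_zero).1 h1

theorem factorization_psl {p n : ℕ} [Fact p.Prime] (hF : Fintype.card F = p ^ n) :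
    (Nat.card (Matrix.ProjectiveSpecialLinearGroup (Fin 2) F)).factorization p ≤ n := by
  have hp : p.Prime := Fact.out
  have hn0 : n ≠ 0 := fun e => by
    have := Fintype.one_lt_card (α := F)
    rw [hF, e, pow_zero] at this
    omega
  have h := Cfsg.Lib.Classical.SmallPSL.card_psl hF
  have hq2 : 1 ≤ (p ^ n) ^ 2 := Nat.one_le_pow _ _ (pow_pos hp.pos n)
  have hnd : ¬ p ∣ (p ^ n) ^ 2 - 1 := by
    intro hd
    have h3 := Nat.dvd_sub (dvd_pow (dvd_pow_self p hn0) two_ne_zero) hd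
    rw [Nat.sub_sub_self hq2] at h3
    exact hp.not_dvd_one h3
  have h0 : (p ^ n) ^ 2 - 1 ≠ 0 := fun e => hnd (e ▸ dvd_zero p)
  have hg : Nat.gcd 2 (p ^ n - 1) ≠ 0 := fun e => two_ne_zero (Nat.gcd_eq_zero_iff.1 e).1
  have h1 := congrArg (fun m => m.factorization p) h
  simp only [Nat.factorization_mul hg Nat.card_pos.ne',
    Nat.factorization_mul (pow_ne_zero n hp.ne_zero) h0, Finsupp.add_apply,
    hp.factorization_pow, Finsupp.single_eq_same, Nat.factorization_eq_zero_of_not_dvd hnd] at h1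
  omega

/-- Data for a Sylow subgroup of a group whose quotient by a subgroup of order prime to `p` is
`PSL(2, q)`. -/
theorem sylow_image {p n : ℕ} [Fact p.Prime] (hF : Fintype.card F = p ^ n) {H : Subgroup G}
    (φ : H →* Matrix.ProjectiveSpecialLinearGroup (Fin 2) F)
    (hker : (Nat.card φ.ker).Coprime p) (S : Sylow p H) :
    Nat.card (S : Subgroup H) ∣ p ^ n ∧ ∀ s ∈ (S : Subgroup H), s ≠ 1 → φ s ≠ 1 := by
  have hne : ∀ s ∈ (S : Subgroup H), s ≠ 1 → φ s ≠ 1 := by
    intro s hs hs1 h1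
    obtain ⟨i, hi⟩ := IsPGroup.iff_orderOf.1 S.2 ⟨s, hs⟩
    rw [Subgroup.orderOf_mk] at hi
    have h2 : orderOf (⟨s, MonoidHom.mem_ker.2 h1⟩ : φ.ker) ∣ Nat.card φ.ker := orderOf_dvd_natCard _
    rw [Subgroup.orderOf_mk, hi] at h2
    rcases i.eq_zero_or_pos with rfl | hi0
    · exact hs1 (orderOf_eq_one_iff.1 (by rw [hi, pow_zero]))
    · exact (Fact.out : p.Prime).not_dvd_one (Nat.Coprime.eq_one_of_dvd hker.symm
        ((dvd_pow_self p hi0.ne').trans h2) ▸ dvd_rfl)
  refine ⟨?_, hne⟩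
  have hinj : Function.Injective (φ.comp (S : Subgroup H).subtype) := by
    rw [← MonoidHom.ker_eq_bot_iff, Subgroup.eq_bot_iff_forall]
    rintro ⟨s, hs⟩ h1
    by_contra h2
    exact hne s hs (fun e => h2 (Subtype.ext e)) h1
  obtain ⟨i, hi⟩ := S.2.exists_card_eq
  have hd := Subgroup.card_dvd_of_injective _ hinj
  rw [hi] at hd ⊢
  refine pow_dvd_pow p (le_trans ?_ (factorization_psl hF))
  exact ((Fact.out : p.Prime).pow_dvd_iff_le_factorization Nat.card_pos.ne').1 hd

end PSL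

end Cfsg.Lib.Components.IndexBound
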