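import Mathlib
import Cfsg.Agent.Classical.Unitary.Matrix
import Cfsg.Agent.Classical.Unitary.Simple
import Cfsg.Agent.Classical.Unitary.Root

/-!
The special unitary group in dimension three: an element without eigenvectors, or its square, is
generated by three transvections; transvections are conjugate; a central element of a Sylow
`p`-subgroup is a transvection.
-/

set_option linter.unusedSectionVars false
set_option linter.style.haveILetI false

namespace Cfsg.Lib.Components.UnitaryThree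

open Cfsg.Lib.Classical

universe u v

variable {F : Type u} [Field F] {V : Type v} [AddCommGroup V] [Module F V]
  (H : HermSpace F V)

/-- `x` is a non-trivial unitary transvection. -/
def IsTr (x : H.SIsom) : Prop :=
  ∃ (v : V) (c : F) (hv : H.h v v = 0) (hc : c + H.σ c = 0), v ≠ 0 ∧ c ≠ 0 ∧ x = H.sT hv hc

/-- A frame `e, w, f`. -/
structure Frame where
  e : V
  w : V
  f : V
  ee : H.h e e = 0
  ff : H.h f f = 0
  ef : H.h e f = 1
  ww : H.h w w = 1
  we : H.h w e = 0
  wf : H.h w f = 0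

variable {H}

theorem Frame.fe (B : Frame H) : H.h B.f B.e = 1 := by rw [H.symm, B.ef, map_one]

theorem Frame.ew (B : Frame H) : H.h B.e B.w = 0 := H.eq_zero_symm B.we

theorem Frame.fw (B : Frame H) : H.h B.f B.w = 0 := H.eq_zero_symm B.wf

theorem Frame.e_ne (B : Frame H) : B.e ≠ 0 := fun h => by
  have := B.ef
  rw [h, H.zero_left] at this
  exact zero_ne_one this

variable [Finite F] [FiniteDimensional F V] (hd : Module.finrank F V = 3)
include hd

theorem exists_frame {v : V} (hv : v ≠ 0) (hvv : H.h v v = 0) : ∃ B : Frame H, B.e = v := by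
  obtain ⟨f, hvf, hff⟩ := H.exists_hyperbolic hv hvv
  obtain ⟨w, hww, hwv, hwf⟩ := H.exists_norm_one_orth_pair (by omega) hvv hvf
  exact ⟨⟨v, w, f, hvv, hff, hvf, hww, hwv, hwf⟩, rfl⟩

theorem decomp (B : Frame H) (x : V) :
    x = H.h x B.f • B.e + H.h x B.w • B.w + H.h x B.e • B.f := by
  set y := x - (H.h x B.f • B.e + H.h x B.w • B.w + H.h x B.e • B.f) with hy
  have hye : H.h y B.e = 0 := by
    simp [hy, H.sub_left, H.add_left, H.smul_left, B.ee, B.we, B.fe]
  have hyw : H.h y B.w = 0 := by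
    simp [hy, H.sub_left, H.add_left, H.smul_left, B.ew, B.ww, B.fw]
  have hyf : H.h y B.f = 0 := by
    simp [hy, H.sub_left, H.add_left, H.smul_left, B.ef, B.wf, B.ff]
  set W := Submodule.span F ({B.e, B.f} : Set V) with hW
  have hli : LinearIndependent F ![B.e, B.f] := by
    rw [LinearIndependent.pair_iff]
    intro a b hab
    have h1 := congrArg (fun z => H.h z B.e) hab
    have h2 := congrArg (fun z => H.h z B.f) hab
    simp [H.add_left, H.smul_left, B.ee, B.fe, B.ef, B.ff, H.zero_left] at h1 h2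
    exact ⟨h2, h1⟩
  have hWd : Module.finrank F W = 2 := by
    rw [hW]
    have h := finrank_span_eq_card hli
    rw [Matrix.range_cons, Matrix.range_cons, Matrix.range_empty, Set.union_empty,
      Set.singleton_union] at h
    simpa using h
  have hOd : Module.finrank F (H.orth W) = 1 := by
    have := H.finrank_orth W
    omega
  have hwO : B.w ∈ H.orth W := H.mem_orth_span.2 (by rintro z (rfl | rfl); exacts [B.we, B.wf])
  have hyO : y ∈ H.orth W := H.mem_orth_span.2 (by rintro z (rfl | rfl); exacts [hye, hyf])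
  have hw0 : (⟨B.w, hwO⟩ : H.orth W) ≠ 0 := fun h => by
    have := B.ww
    rw [show B.w = 0 from congrArg Subtype.val h, H.zero_left] at this
    exact zero_ne_one this
  obtain ⟨c, hc⟩ := (finrank_eq_one_iff_of_nonzero' _ hw0).1 hOd ⟨y, hyO⟩
  have hc' : c • B.w = y := congrArg Subtype.val hc
  rw [← hc', H.smul_left, B.ww, mul_one] at hyw
  rw [hyw, zero_smul, hy] at hc'
  exact (sub_eq_zero.1 hc'.symm)

theorem ext_frame (B : Frame H) {x y : V} (h1 : H.h x B.e = H.h y B.e)
    (h2 : H.h x B.w = H.h y B.w) (h3 : H.h x B.f = H.h y B.f) : x = y := by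
  rw [decomp hd B x, decomp hd B y, h1, h2, h3]

/-- The determinant in a frame. -/
theorem det_frame (B : Frame H) (g : V →ₗ[F] V) :
    LinearMap.det g = Matrix.det !![H.h (g B.e) B.f, H.h (g B.w) B.f, H.h (g B.f) B.f;
      H.h (g B.e) B.w, H.h (g B.w) B.w, H.h (g B.f) B.w;
      H.h (g B.e) B.e, H.h (g B.w) B.e, H.h (g B.f) B.e] := by
  classical
  have hli : LinearIndependent F ![B.e, B.w, B.f] := by
    rw [Fintype.linearIndependent_iff]
    intro a ha
    simp [Fin.sum_univ_three] at ha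
    have h1 := congrArg (fun z => H.h z B.e) ha
    have h2 := congrArg (fun z => H.h z B.w) ha
    have h3 := congrArg (fun z => H.h z B.f) ha
    simp [H.add_left, H.smul_left, B.ee, B.we, B.fe, B.ew, B.ww, B.fw, B.ef, B.wf, B.ff,
      H.zero_left] at h1 h2 h3
    intro i
    fin_cases i
    exacts [h3, h2, h1]
  let b := basisOfLinearIndependentOfCardEqFinrank hli (by simp [hd])
  have hb : ∀ i, b i = ![B.e, B.w, B.f] i := fun i => by simp [b]
  have hrepr : ∀ x : V, ∀ i, b.repr x i = ![H.h x B.f, H.h x B.w, H.h x B.e] i := by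
    intro x i
    have hx : x = ∑ j, ![H.h x B.f, H.h x B.w, H.h x B.e] j • b j := by
      simp only [hb, Fin.sum_univ_three]
      exact decomp hd B x
    conv_lhs => rw [hx, b.repr_sum_self]
  rw [← LinearMap.det_toMatrix b]
  congr 1
  ext i j
  rw [LinearMap.toMatrix_apply, hrepr, hb]
  fin_cases i <;> fin_cases j <;> rfl

/-- The isotropic vectors determine a sesquilinear form up to multiples of `h`. -/
theorem form_scalar (hq : 3 ≤ Nat.card (fixedField H.σ)) (M : V →ₗ[F] V)
    (hM : ∀ v, H.h v v = 0 → H.h (M v) v = 0) : ∃ k : F, ∀ x, M x = k • x := by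
  obtain ⟨v0, hv0, hv0'⟩ : ∃ v : V, v ≠ 0 ∧ H.h v v = 0 := by
    haveI : Nontrivial V := Module.nontrivial_of_finrank_pos (R := F) (by omega)
    obtain ⟨b, hb⟩ := H.exists_orthonormal
    obtain ⟨a, ha⟩ := H.conj.norm_surjective (a := (-1 : F)) (by rw [map_neg, map_one])
    refine ⟨b ⟨0, by omega⟩ + a • b ⟨1, by omega⟩, ?_, ?_⟩
    · intro h
      have := congrArg (fun z => H.h z (b ⟨0, by omega⟩)) h
      simp [H.add_left, H.smul_left, hb, H.zero_left] at this
    · simp [H.add_left, H.add_right, H.smul_left, H.smul_right, hb]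
      linear_combination ha
  obtain ⟨B, -⟩ := exists_frame hd hv0 hv0'
  obtain ⟨θ, hθ⟩ := H.conj.exists_trace_one
  obtain ⟨ε, hε0, hε⟩ := H.conj.exists_skew
  obtain ⟨l, hl⟩ := H.conj.ne_id
  have hσε : H.σ ε = -ε := by linear_combination hε
  obtain ⟨μ, hμ0, hμ1⟩ : ∃ μ : fixedField H.σ, μ ≠ 0 ∧ μ ≠ 1 := by
    classical
    haveI := Fintype.ofFinite (fixedField H.σ)
    by_contra! h
    have h2 := Finset.card_le_card (s := (Finset.univ : Finset (fixedField H.σ))) (t := {0, 1})
      fun z _ => by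
        by_cases hz : z = 0
        · simp [hz]
        · simp [h z hz]
    rw [Finset.card_univ, ← Nat.card_eq_fintype_card] at h2
    exact absurd ((hq.trans h2).trans Finset.card_le_two) (by norm_num)
  have hμσ : H.σ (μ : F) = μ := μ.2
  have Kee := hM B.e B.ee
  have Kff := hM B.f B.ff
  -- `K(e,f) = K(f,e)`
  have hkk : H.h (M B.f) B.e = H.h (M B.e) B.f := by
    have h1 := hM (B.e + ε • B.f) (by
      simp [H.add_left, H.add_right, H.smul_left, H.smul_right, B.ee, B.ff, B.ef, B.fe, hσε])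
    simp [map_add, map_smul, H.add_left, H.add_right, H.smul_left, H.smul_right, Kee, Kff, hσε] at h1
    have h2 : ε * (H.h (M B.f) B.e - H.h (M B.e) B.f) = 0 := by linear_combination h1
    exact sub_eq_zero.1 ((mul_eq_zero.1 h2).resolve_left hε0)
  set k := H.h (M B.e) B.f with hk
  have hgen : ∀ c d : F, d + H.σ d + c * H.σ c = 0 →
      c * H.σ c * (H.h (M B.w) B.w - k) + (H.σ c * H.h (M B.e) B.w + c * H.h (M B.w) B.e) +
        (c * H.σ d * H.h (M B.w) B.f + d * H.σ c * H.h (M B.f) B.w) = 0 := by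
    intro c d hcd
    have h1 := hM (B.e + c • B.w + d • B.f) (by
      simp [H.add_left, H.add_right, H.smul_left, H.smul_right, B.ee, B.ff, B.ef, B.fe, B.ww,
        B.we, B.wf, B.ew, B.fw]
      linear_combination hcd)
    simp [map_add, map_smul, H.add_left, H.add_right, H.smul_left, H.smul_right, Kee, Kff, hkk,
      ← hk] at h1
    linear_combination h1 - k * hcd
  have hd' : ∀ c : F, (-(c * H.σ c) * θ) + H.σ (-(c * H.σ c) * θ) + c * H.σ c = 0 := fun c => by
    rw [map_mul, map_neg, H.conj.norm_mem]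
    linear_combination (-(c * H.σ c)) * hθ
  have hshift : ∀ c : F, H.σ c * H.h (M B.f) B.w - c * H.h (M B.w) B.f = 0 := by
    intro c
    have h1 := hgen c _ (hd' c)
    have h2 := hgen c (-(c * H.σ c) * θ + ε) (by
      rw [map_add, hσε]
      linear_combination hd' c)
    rw [map_add, hσε] at h2
    have h3 : ε * (H.σ c * H.h (M B.f) B.w - c * H.h (M B.w) B.f) = 0 := by
      linear_combination h2 - h1
    exact (mul_eq_zero.1 h3).resolve_left hε0
  have hfw : H.h (M B.f) B.w = 0 ∧ H.h (M B.w) B.f = 0 := by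
    have h1 := hshift 1
    have h2 := hshift l
    rw [map_one, one_mul, one_mul, sub_eq_zero] at h1
    rw [← h1] at h2 ⊢
    have h3 : (H.σ l - l) * H.h (M B.f) B.w = 0 := by linear_combination h2
    exact ⟨(mul_eq_zero.1 h3).resolve_left (sub_ne_zero.2 hl),
      (mul_eq_zero.1 h3).resolve_left (sub_ne_zero.2 hl)⟩
  have hQ : ∀ c : F, c * H.σ c * (H.h (M B.w) B.w - k) +
      (H.σ c * H.h (M B.e) B.w + c * H.h (M B.w) B.e) = 0 := fun c => by
    have h1 := hgen c _ (hd' c)
    rw [hfw.1, hfw.2] at h1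
    linear_combination h1
  have hA : H.h (M B.w) B.w - k = 0 := by
    have h1 := hQ 1
    have h2 := hQ μ
    simp only [map_one, one_mul] at h1
    rw [hμσ] at h2
    have h3 : (μ : F) * ((μ : F) - 1) * (H.h (M B.w) B.w - k) = 0 := by
      linear_combination h2 - (μ : F) * h1
    refine (mul_eq_zero.1 h3).resolve_left (mul_ne_zero (fun h => hμ0 (Subtype.ext h)) ?_)
    exact sub_ne_zero.2 fun h => hμ1 (Subtype.ext h)
  have hew : H.h (M B.e) B.w = 0 ∧ H.h (M B.w) B.e = 0 := by
    have h1 := hQ 1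
    have h2 := hQ l
    rw [hA] at h1 h2
    simp only [map_one, one_mul, mul_zero, zero_add] at h1 h2
    have h3 : (H.σ l - l) * H.h (M B.e) B.w = 0 := by linear_combination h2 - l * h1
    have h4 := (mul_eq_zero.1 h3).resolve_left (sub_ne_zero.2 hl)
    rw [h4, zero_add] at h1
    exact ⟨h4, h1⟩
  refine ⟨k, fun x => ?_⟩
  have e1 : M B.e = k • B.e := ext_frame hd B (by simp [H.smul_left, B.ee, Kee])
    (by simp [H.smul_left, B.ew, hew.1]) (by simp [H.smul_left, B.ef, ← hk])
  have e2 : M B.w = k • B.w := ext_frame hd B (by simp [H.smul_left, B.we, hew.2])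
    (by simp [H.smul_left, B.ww, sub_eq_zero.1 hA]) (by simp [H.smul_left, B.wf, hfw.2])
  have e3 : M B.f = k • B.f := ext_frame hd B (by simp [H.smul_left, B.fe, hkk])
    (by simp [H.smul_left, B.fw, hfw.1]) (by simp [H.smul_left, B.ff, Kff])
  conv_lhs => rw [decomp hd B x]
  conv_rhs => rw [decomp hd B x]
  rw [map_add, map_add, map_smul, map_smul, map_smul, e1, e2, e3]
  module

/-- Two forms not vanishing on all isotropic vectors have a common non-vanishing isotropic
vector. -/
theorem exists_good (hq : 4 ≤ Nat.card (fixedField H.σ)) (M₁ M₂ : V →ₗ[F] V) {v₁ v₂ : V}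
    (h₁ : H.h v₁ v₁ = 0) (n₁ : H.h (M₁ v₁) v₁ ≠ 0) (h₂ : H.h v₂ v₂ = 0)
    (n₂ : H.h (M₂ v₂) v₂ ≠ 0) :
    ∃ v, H.h v v = 0 ∧ H.h (M₁ v) v ≠ 0 ∧ H.h (M₂ v) v ≠ 0 := by
  classical
  by_contra hno
  have z₁ : H.h (M₂ v₁) v₁ = 0 := by_contra fun h => hno ⟨v₁, h₁, n₁, h⟩
  have z₂ : H.h (M₁ v₂) v₂ = 0 := by_contra fun h => hno ⟨v₂, h₂, h, n₂⟩
  have hv1 : v₁ ≠ 0 := fun h => n₁ (by rw [h, H.zero_right])
  have hnorth : H.h v₁ v₂ ≠ 0 := by
    intro h0
    obtain ⟨B, rfl⟩ := exists_frame hd hv1 h₁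
    have hx := decomp hd B v₂
    rw [H.eq_zero_symm h0, zero_smul, add_zero] at hx
    have hw : H.h v₂ B.w = 0 := by
      have h := h₂
      rw [hx] at h
      simp [H.add_left, H.add_right, H.smul_left, H.smul_right, B.ee, B.we, B.ew, B.ww] at h
      exact h
    rw [hw, zero_smul, add_zero] at hx
    apply n₂
    rw [hx, map_smul, H.smul_left, H.smul_right, z₁, mul_zero, mul_zero]
  set v₂' := (H.σ (H.h v₁ v₂))⁻¹ • v₂ with hv₂'
  have hσn : H.σ (H.h v₁ v₂) ≠ 0 := fun h => hnorth (H.conj.eq_zero.1 h)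
  have h12 : H.h v₁ v₂' = 1 := by
    rw [hv₂', H.smul_right, map_inv₀, H.conj.invol, inv_mul_cancel₀ hnorth]
  have h21 : H.h v₂' v₁ = 1 := by rw [H.symm, h12, map_one]
  have h22 : H.h v₂' v₂' = 0 := by rw [hv₂', H.smul_left, H.smul_right, h₂, mul_zero, mul_zero]
  have z₂' : H.h (M₁ v₂') v₂' = 0 := by
    rw [hv₂', map_smul, H.smul_left, H.smul_right, z₂, mul_zero, mul_zero]
  have n₂' : H.h (M₂ v₂') v₂' ≠ 0 := by
    rw [hv₂', map_smul, H.smul_left, H.smul_right]
    exact mul_ne_zero (inv_ne_zero hσn) (mul_ne_zero ((map_ne_zero H.σ).2 (inv_ne_zero hσn)) n₂)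
  obtain ⟨ε, hε0, hε⟩ := H.conj.exists_skew
  have hσε : H.σ ε = -ε := by linear_combination hε
  haveI := Fintype.ofFinite (fixedField H.σ)
  let C₁ := H.h (M₁ v₂') v₁ - H.h (M₁ v₁) v₂'
  let C₂ := H.h (M₂ v₂') v₁ - H.h (M₂ v₁) v₂'
  let bad : Finset (fixedField H.σ) := Finset.univ.filter fun s : fixedField H.σ =>
    (s : F) = 0 ∨ (s : F) * (ε * C₁) = -H.h (M₁ v₁) v₁ ∨
      (s : F) * (ε ^ 2 * H.h (M₂ v₂') v₂') = ε * C₂
  have hone : ∀ (a b : F), b ≠ 0 ∨ a ≠ 0 →
      (Finset.univ.filter fun s : fixedField H.σ => (s : F) * a = b).card ≤ 1 := by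
    intro a b hab
    refine Finset.card_le_one.2 fun s hs t ht => Subtype.ext ?_
    rw [Finset.mem_filter] at hs ht
    have ha : a ≠ 0 := fun ha => by
      rcases hab with hb | ha'
      · exact hb (by rw [← hs.2, ha, mul_zero])
      · exact ha' ha
    exact mul_right_cancel₀ ha (hs.2.trans ht.2.symm)
  have hbad : bad.card ≤ 3 := by
    have e0 : ∀ s : fixedField H.σ, ((s : F) = 0) = ((s : F) * 1 = 0) := fun s => by rw [mul_one]
    simp only [bad, Finset.filter_or, e0]
    refine (Finset.card_union_le _ _).trans ?_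
    refine le_of_le_of_eq (Nat.add_le_add (hone 1 0 (Or.inr one_ne_zero))
      ((Finset.card_union_le _ _).trans (Nat.add_le_add (hone _ _ (Or.inl (neg_ne_zero.2 n₁)))
        (hone _ _ (Or.inr (mul_ne_zero (pow_ne_zero 2 hε0) n₂')))))) (by norm_num)
  obtain ⟨s, hs⟩ : ∃ s : fixedField H.σ, s ∉ bad := by
    by_contra! hall
    have := Finset.card_le_card (s := (Finset.univ : Finset (fixedField H.σ))) fun z _ => hall z
    rw [Finset.card_univ, ← Nat.card_eq_fintype_card] at this
    omega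
  simp only [bad, Finset.mem_filter, Finset.mem_univ, true_and, not_or] at hs
  obtain ⟨hs0, hs1, hs2⟩ := hs
  have hσs : H.σ (s : F) = s := s.2
  set t := ε * (s : F) with ht
  have hσt : H.σ t = -t := by rw [ht, map_mul, hσε, hσs, neg_mul]
  refine hno ⟨v₁ + t • v₂', ?_, ?_, ?_⟩
  · simp [H.add_left, H.add_right, H.smul_left, H.smul_right, h₁, h12, h21, h22, hσt]
  · intro h0
    simp [map_add, map_smul, H.add_left, H.add_right, H.smul_left, H.smul_right, z₂', hσt] at h0
    apply hs1
    linear_combination h0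
  · intro h0
    simp [map_add, map_smul, H.add_left, H.add_right, H.smul_left, H.smul_right, z₁, hσt] at h0
    apply hs2
    have h3 : (s : F) * (ε * C₂ - (s : F) * (ε ^ 2 * H.h (M₂ v₂') v₂')) = 0 := by
      simp only [C₂]
      linear_combination h0
    exact (sub_eq_zero.1 ((mul_eq_zero.1 h3).resolve_left hs0)).symm

omit hd in
/-- Peeling off a transvection. -/
theorem peel (g : H.SIsom) (u : V) (hv : H.h (g.1.1 u - u) (g.1.1 u - u) = 0)
    (hne : H.h u (g.1.1 u - u) ≠ 0) :
    ∃ T : H.SIsom, IsTr H T ∧ (T⁻¹ * g).1.1 u = u := by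
  set v := g.1.1 u - u with hvdef
  have hsk : H.h u v + H.σ (H.h u v) = 0 := by
    rw [← H.symm]
    have h1 := hv
    rw [hvdef] at h1 ⊢
    simp only [H.sub_left, H.sub_right, H.map_form] at h1 ⊢
    linear_combination -h1
  have hc : (H.h u v)⁻¹ + H.σ (H.h u v)⁻¹ = 0 := by
    have hs : H.σ (H.h u v) = -H.h u v := by linear_combination hsk
    rw [map_inv₀, hs]
    ring
  have hv0 : v ≠ 0 := fun h => hne (by rw [h, H.zero_right])
  refine ⟨H.sT hv hc, ⟨v, _, hv, hc, hv0, inv_ne_zero hne, rfl⟩, ?_⟩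
  have hT : (H.sT hv hc).1.1 u = g.1.1 u := by
    rw [H.sT_apply, inv_mul_cancel₀ hne, one_smul, hvdef]
    abel
  show ((H.sT hv hc).1⁻¹ : H.Isom).1 (g.1.1 u) = u
  rw [← hT, H.inv_apply_self]

omit hd in
theorem det_one (g : H.SIsom) : LinearMap.det g.1.1.toLinearMap = 1 := by
  have h := congrArg Units.val (H.mem_SIsom.1 g.2)
  rwa [LinearEquiv.coe_det, Units.val_one] at h

/-- An element fixing a plane pointwise is trivial or a transvection. -/
theorem fix_two (g : H.SIsom) {x y : V} (hxy : LinearIndependent F ![x, y])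
    (hx : g.1.1 x = x) (hy : g.1.1 y = y) : g = 1 ∨ IsTr H g := by
  set W := Submodule.span F ({x, y} : Set V) with hW
  have hWd : Module.finrank F W = 2 := by
    rw [hW]
    have h := finrank_span_eq_card hxy
    rw [Matrix.range_cons, Matrix.range_cons, Matrix.range_empty, Set.union_empty,
      Set.singleton_union] at h
    simpa using h
  have hOd : Module.finrank F (H.orth W) = 1 := by
    have := H.finrank_orth W
    omega
  obtain ⟨⟨v, hvO⟩, hv0', -⟩ := finrank_eq_one_iff'.1 hOd
  have hv0 : v ≠ 0 := fun h => hv0' (Subtype.ext h)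
  obtain ⟨p, hp⟩ := H.exists_partner hv0
  have himg : ∀ z, g.1.1 z - z ∈ H.orth W := fun z => H.mem_orth_span.2 (by
    rintro a (rfl | rfl)
    · rw [H.sub_left]; conv_lhs => arg 1; rw [← hx]
      rw [H.map_form, sub_self]
    · rw [H.sub_left]; conv_lhs => arg 1; rw [← hy]
      rw [H.map_form, sub_self])
  set φ : Module.Dual F V := (H.lin p).comp (g.1.1.toLinearMap - LinearMap.id) with hφ
  have hφv : ∀ z, g.1.1 z = z + φ z • v := by
    intro z
    obtain ⟨c, hc⟩ := (finrank_eq_one_iff_of_nonzero' (⟨v, hvO⟩ : H.orth W) hv0').1 hOd ⟨_, himg z⟩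
    have hc' : c • v = g.1.1 z - z := congrArg Subtype.val hc
    have hφz : φ z = c := by
      show H.h (g.1.1 z - z) p = c
      rw [← hc', H.smul_left, hp, mul_one]
    rw [hφz, hc', add_sub_cancel]
  have hlin : g.1.1.toLinearMap = LinearMap.transvection φ v := by
    refine LinearMap.ext fun z => ?_
    rw [LinearMap.transvection.apply]
    exact hφv z
  have hφv0 : φ v = 0 := by
    have := det_one g
    rw [hlin, LinearMap.transvection.det] at this
    linear_combination this
  have hfixW : ∀ z ∈ W, φ z = 0 := fun z hz => by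
    show H.h (g.1.1 z - z) p = 0
    have : g.1.1 z = z := by
      have hle : W ≤ LinearMap.eqLocus g.1.1.toLinearMap LinearMap.id := by
        rw [hW, Submodule.span_le]
        rintro a (rfl | rfl)
        exacts [hx, hy]
      exact hle hz
    rw [this, sub_self, H.zero_left]
  by_cases hall : ∀ z, φ z = 0
  · left
    exact H.sisom_ext fun z => by rw [hφv z, hall z, zero_smul, add_zero]; rfl
  right
  have hvv : H.h v v = 0 := by
    by_contra hvv
    apply hall
    intro z
    set z' := z - (H.h z v / H.h v v) • v with hz'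
    have hz'W : z' ∈ W := by
      rw [← H.orth_orth W, HermSpace.mem_orth]
      intro a ha
      obtain ⟨c, hc⟩ := (finrank_eq_one_iff_of_nonzero' (⟨v, hvO⟩ : H.orth W) hv0').1 hOd ⟨a, ha⟩
      rw [show a = c • v from (congrArg Subtype.val hc).symm, H.smul_right, hz', H.sub_left,
        H.smul_left, div_mul_cancel₀ _ hvv, sub_self, mul_zero]
    have := hfixW z' hz'W
    rw [hz', map_sub, map_smul, hφv0, smul_zero, sub_zero] at this
    exact this
  obtain ⟨p', hp'⟩ : ∃ p', H.h p' v = 1 := ⟨p, by rw [H.symm, hp, map_one]⟩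
  set c := φ p' with hc
  have hform : ∀ z, φ z = c * H.h z v := by
    intro z
    have hz'W : z - H.h z v • p' ∈ W := by
      rw [← H.orth_orth W, HermSpace.mem_orth]
      intro a ha
      obtain ⟨d, hd'⟩ := (finrank_eq_one_iff_of_nonzero' (⟨v, hvO⟩ : H.orth W) hv0').1 hOd ⟨a, ha⟩
      rw [show a = d • v from (congrArg Subtype.val hd').symm, H.smul_right, H.sub_left,
        H.smul_left, hp', mul_one, sub_self, mul_zero]
    have := hfixW _ hz'W
    rw [map_sub, map_smul, smul_eq_mul, sub_eq_zero] at this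
    rw [this, mul_comm]
  have hskew : c + H.σ c = 0 := by
    have h1 := H.map_form g.1 p' p'
    rw [hφv p', hform p', hp', mul_one] at h1
    simp [H.add_left, H.add_right, H.smul_left, H.smul_right, hvv, hp',
      H.symm v p'] at h1
    linear_combination h1
  have hc0 : c ≠ 0 := fun h => hall fun z => by rw [hform z, h, zero_mul]
  exact ⟨v, c, hvv, hskew, hv0, hc0, H.sisom_ext fun z => by rw [H.sT_apply, hφv z, hform z]⟩

/-- The main decomposition. -/
theorem generated_by_three (hq : 4 ≤ Nat.card (fixedField H.σ)) (g : H.SIsom)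
    (hne : ∀ (a : F) (x : V), g.1.1 x = a • x → x = 0) :
    ∃ k : ℕ, (k = 1 ∨ k = 2) ∧ ∃ T₁ T₂ T₃ : H.SIsom, IsTr H T₁ ∧ IsTr H T₂ ∧ IsTr H T₃ ∧
      g ^ k ∈ Subgroup.closure ({T₁, T₂, T₃} : Set H.SIsom) := by
  classical
  haveI : Nontrivial V := Module.nontrivial_of_finrank_pos (R := F) (by omega)
  let D : V →ₗ[F] V := g.1.1.toLinearMap - LinearMap.id
  have hDi : Function.Injective D := by
    rw [← LinearMap.ker_eq_bot, Submodule.eq_bot_iff]
    intro x hx
    refine hne 1 x ?_
    rw [one_smul]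
    exact sub_eq_zero.1 (LinearMap.mem_ker.1 hx)
  let De : V ≃ₗ[F] V := LinearEquiv.ofInjectiveEndo D hDi
  let M : V →ₗ[F] V := De.symm.toLinearMap
  have hM : ∀ v, g.1.1 (M v) - M v = v := fun v => De.apply_symm_apply v
  let N : V →ₗ[F] V := -(M + M.comp M)
  have hN : ∀ v, H.h (M v) (M v) = H.h (N v) v := by
    intro v
    have hb := hM v
    have ha := hM (M v)
    set a := M v
    set a' := M a
    have h1 : N v = -(g.1.1 a') := by
      show -(a + a') = _
      rw [show g.1.1 a' = a + a' from eq_add_of_sub_eq ha]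
    rw [h1, ← hb, H.sub_right, H.neg_left, H.neg_left, H.map_form]
    have e : g.1.1 a' = a + a' := eq_add_of_sub_eq ha
    rw [e, H.add_left]
    ring
  have hMno : ∃ v, H.h v v = 0 ∧ H.h (M v) v ≠ 0 := by
    by_contra! hall
    obtain ⟨k, hk⟩ := form_scalar hd (by omega) M hall
    obtain ⟨x, hx⟩ := exists_ne (0 : V)
    have h1 := hM x
    rw [hk, map_smul] at h1
    rcases eq_or_ne k 0 with rfl | hk0
    · simp at h1; exact hx h1.symm
    refine hx (hne ((1 + k) / k) x ?_)
    rw [sub_eq_iff_eq_add] at h1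
    calc g.1.1 x = k⁻¹ • (k • g.1.1 x) := by rw [inv_smul_smul₀ hk0]
      _ = k⁻¹ • (x + k • x) := by rw [h1]
      _ = ((1 + k) / k) • x := by rw [smul_add, smul_smul, ← add_smul]; congr 1; field_simp
  have hNno : ∃ v, H.h v v = 0 ∧ H.h (N v) v ≠ 0 := by
    by_contra! hall
    obtain ⟨k, hk⟩ := form_scalar hd (by omega) N hall
    -- a quadratic relation gives an invariant line
    have hquad : ∀ z, g.1.1 z + k • (g.1.1 (g.1.1 z) - g.1.1 z - (g.1.1 z - z)) = 0 := by
      intro z
      set x := g.1.1 (g.1.1 z) - g.1.1 z - (g.1.1 z - z) with hx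
      have hxD : x = D (D z) := by
        show _ = g.1.1 (g.1.1 z - z) - (g.1.1 z - z)
        rw [hx, map_sub]
      have hM1 : M x = D z := by rw [hxD]; exact De.symm_apply_apply (D z)
      have hM2 : M (M x) = z := by rw [hM1]; exact De.symm_apply_apply z
      have := hk x
      rw [show N x = -(M x + M (M x)) from rfl, hM2, hM1] at this
      show g.1.1 z + k • x = 0
      rw [← this]
      show g.1.1 z + -((g.1.1 z - z) + z) = 0
      abel
    rcases eq_or_ne k 0 with rfl | hk0
    · obtain ⟨x, hx⟩ := exists_ne (0 : V)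
      have := hquad x
      rw [zero_smul, add_zero] at this
      exact hx ((LinearEquiv.map_eq_zero_iff _).1 this)
    obtain ⟨x, hx⟩ := exists_ne (0 : V)
    set W := Submodule.span F ({x, g.1.1 x} : Set V) with hW
    have hWd : Module.finrank F W = 2 := by
      have hli : LinearIndependent F ![x, g.1.1 x] :=
        (LinearIndependent.pair_iff' hx).2 fun a ha => hx (hne a x ha.symm)
      rw [hW]
      have h := finrank_span_eq_card hli
      rw [Matrix.range_cons, Matrix.range_cons, Matrix.range_empty, Set.union_empty,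
        Set.singleton_union] at h
      simpa using h
    have hgW : ∀ a ∈ W, g.1.1 a ∈ W := by
      have hle : W.map g.1.1.toLinearMap ≤ W := by
        rw [hW, Submodule.map_span, Submodule.span_le]
        rintro _ ⟨a, (rfl | rfl), rfl⟩
        · exact Submodule.subset_span (Or.inr rfl)
        · have h1 := hquad x
          have e : g.1.1 (g.1.1 x) = (2 - k⁻¹) • g.1.1 x - x := by
            have h2 : k⁻¹ • (g.1.1 x + k • (g.1.1 (g.1.1 x) - g.1.1 x - (g.1.1 x - x))) = 0 := by
              rw [h1, smul_zero]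
            rw [smul_add, inv_smul_smul₀ hk0] at h2
            rw [sub_smul, two_smul]
            linear_combination (norm := module) h2
          show g.1.1 (g.1.1 x) ∈ _
          rw [e]
          exact sub_mem (Submodule.smul_mem _ _ (Submodule.subset_span (Or.inr rfl)))
            (Submodule.subset_span (Or.inl rfl))
      exact fun a ha => hle ⟨a, ha, rfl⟩
    have hWeq : W.map g.1.1.toLinearMap = W :=
      Submodule.eq_of_le_of_finrank_eq (by rintro _ ⟨a, ha, rfl⟩; exact hgW a ha)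
        (LinearEquiv.finrank_map_eq g.1.1 W)
    have hOd : Module.finrank F (H.orth W) = 1 := by
      have := H.finrank_orth W
      omega
    obtain ⟨⟨y, hyO⟩, hy0, hyspan⟩ := finrank_eq_one_iff'.1 hOd
    have hgy : g.1.1 y ∈ H.orth W := by
      rw [HermSpace.mem_orth]
      intro a ha
      rw [← hWeq] at ha
      obtain ⟨a', ha', rfl⟩ := ha
      show H.h (g.1.1 y) (g.1.1 a') = 0
      rw [H.map_form]
      exact (H.mem_orth.1 hyO) a' ha'
    obtain ⟨a, ha⟩ := hyspan ⟨_, hgy⟩
    exact hy0 (Subtype.ext (hne a y (congrArg Subtype.val ha).symm))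
  obtain ⟨v₁, h₁, n₁⟩ := hMno
  obtain ⟨v₂, h₂, n₂⟩ := hNno
  obtain ⟨v, hv, nM, nN⟩ := exists_good hd hq M N h₁ n₁ h₂ n₂
  set u := M v with hu
  obtain ⟨T, hT, hfix⟩ := peel g u (by rw [hM]; exact hv) (by rw [hM]; exact nM)
  have huu : H.h u u ≠ 0 := by rw [hN]; exact nN
  set g' := T⁻¹ * g with hg'
  have hg : g = T * g' := by rw [hg', mul_inv_cancel_left]
  set W := H.orth (Submodule.span F ({u} : Set V)) with hWdef
  have hWmem : ∀ z, z ∈ W ↔ H.h z u = 0 := fun z => by
    rw [hWdef, H.mem_orth_span]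
    simp
  have hu0 : u ≠ 0 := fun h => huu (by rw [h, H.zero_left])
  have hWd : Module.finrank F W = 2 := by
    have := H.finrank_orth (Submodule.span F ({u} : Set V))
    rw [finrank_span_singleton hu0] at this
    rw [hWdef]; omega
  have hWinv : ∀ z ∈ W, g'.1.1 z - z ∈ W := fun z hz => by
    rw [hWmem] at hz ⊢
    rw [H.sub_left, hz, sub_zero]
    conv_lhs => arg 3; rw [← hfix]
    rw [H.map_form, hz]
  have hindep : ∀ z ∈ W, z ≠ 0 → LinearIndependent F ![u, z] := fun z hz hz0 => by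
    refine (LinearIndependent.pair_iff' hu0).2 fun a ha => hz0 ?_
    rw [hWmem, ← ha, H.smul_left, mul_eq_zero, or_iff_left huu] at hz
    rw [← ha, hz, zero_smul]
  have hTmem : ∀ a b c : H.SIsom, a ∈ Subgroup.closure ({a, b, c} : Set H.SIsom) ∧
      b ∈ Subgroup.closure ({a, b, c} : Set H.SIsom) ∧
      c ∈ Subgroup.closure ({a, b, c} : Set H.SIsom) := fun a b c =>
    ⟨Subgroup.subset_closure (Or.inl rfl), Subgroup.subset_closure (Or.inr (Or.inl rfl)),
      Subgroup.subset_closure (Or.inr (Or.inr rfl))⟩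
  by_cases hfx : ∃ z ∈ W, z ≠ 0 ∧ g'.1.1 z = z
  · obtain ⟨z, hz, hz0, hgz⟩ := hfx
    rcases fix_two hd g' (hindep z hz hz0) hfix hgz with e | e
    · refine ⟨1, Or.inl rfl, T, T, T, hT, hT, hT, ?_⟩
      rw [pow_one, hg, e, mul_one]
      exact (hTmem T T T).1
    · refine ⟨1, Or.inl rfl, T, g', g', hT, e, e, ?_⟩
      rw [pow_one, hg]
      exact mul_mem (hTmem T g' g').1 (hTmem T g' g').2.1
  let D' : W →ₗ[F] W := (g'.1.1.toLinearMap - LinearMap.id).restrict hWinv
  have hD'i : Function.Injective D' := by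
    rw [← LinearMap.ker_eq_bot, Submodule.eq_bot_iff]
    intro z hz
    by_contra hz0
    refine hfx ⟨z, z.2, fun h => hz0 (Subtype.ext h), ?_⟩
    exact sub_eq_zero.1 (congrArg Subtype.val (LinearMap.mem_ker.1 hz))
  let De' : W ≃ₗ[F] W := LinearEquiv.ofInjectiveEndo D' hD'i
  have hM' : ∀ z : W, g'.1.1 (De'.symm z : V) - (De'.symm z : V) = (z : V) := fun z =>
    congrArg Subtype.val (De'.apply_symm_apply z)
  by_cases hgood : ∃ z : W, H.h (z : V) z = 0 ∧ H.h (De'.symm z : V) z ≠ 0
  · obtain ⟨z, hz, hnz⟩ := hgood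
    set u' : V := (De'.symm z : V) with hu'
    obtain ⟨T', hT', hfix'⟩ := peel g' u' (by rw [hM']; exact hz) (by rw [hM']; exact hnz)
    have hu'0 : u' ≠ 0 := fun h => hnz (by rw [h, H.zero_left])
    set g'' := T'⁻¹ * g' with hg''
    have hfu : g''.1.1 u = u := by
      -- `T'` fixes `u`, its centre being orthogonal to `u`
      obtain ⟨v', c', hv', hc', -, -, rfl⟩ := hT'
      have e1 : (H.sT hv' hc').1.1 u' = g'.1.1 u' := by
        have := congrArg (H.sT hv' hc').1.1 hfix'
        rw [← this]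
        show (H.sT hv' hc').1.1 (((H.sT hv' hc').1⁻¹ : H.Isom).1 (g'.1.1 u')) = _
        rw [H.apply_inv_self]
      rw [H.sT_apply] at e1
      have hzu : H.h u (z : V) = 0 := H.eq_zero_symm ((hWmem _).1 z.2)
      have hv'u : H.h u v' = 0 := by
        have e2 : (c' * H.h u' v') • v' = (z : V) := by
          rw [← hM' z, ← hu', ← e1]; abel
        have e3 : c' * H.h u' v' ≠ 0 := fun h => hnz (by
          rw [← e2, h, zero_smul, H.zero_right])
        have e4 := hzu
        rw [← e2, H.smul_right, mul_eq_zero] at e4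
        exact e4.resolve_left ((map_ne_zero H.σ).2 e3)
      show ((H.sT hv' hc').1⁻¹ : H.Isom).1 (g'.1.1 u) = u
      rw [hfix]
      have e5 : (H.sT hv' hc').1.1 u = u := by rw [H.sT_apply, hv'u, mul_zero, zero_smul, add_zero]
      conv_lhs => rw [← e5]
      rw [H.inv_apply_self]
    rcases fix_two hd g'' (hindep u' (De'.symm z).2 hu'0) hfu hfix' with e | e
    · refine ⟨1, Or.inl rfl, T, T', T', hT, hT', hT', ?_⟩
      rw [pow_one, hg, ← mul_inv_cancel_left T' g', ← hg'', e, mul_one]
      exact mul_mem (hTmem T T' T').1 (hTmem T T' T').2.1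
    · refine ⟨1, Or.inl rfl, T, T', g'', hT, hT', e, ?_⟩
      rw [pow_one, hg, ← mul_inv_cancel_left T' g', ← hg'']
      exact mul_mem (hTmem T T' g'').1 (mul_mem (hTmem T T' g'').2.1 (hTmem T T' g'').2.2)
  -- otherwise `g'` is an involution
  have hgood' : ∀ z : W, H.h (z : V) z = 0 → H.h (De'.symm z : V) z = 0 :=
    fun z hz => by_contra fun h => hgood ⟨z, hz, h⟩
  obtain ⟨b, hb⟩ := H.conj.norm_surjective (a := (H.h u u)⁻¹) (by rw [map_inv₀, H.self_fixed])
  set w := b • u with hw
  have hww : H.h w w = 1 := by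
    rw [hw, H.smul_left, H.smul_right, ← mul_assoc, hb, inv_mul_cancel₀ huu]
  have hb0 : b ≠ 0 := fun h => by
    rw [h, zero_mul] at hb
    exact inv_ne_zero huu hb.symm
  obtain ⟨e, heW, he0, hee⟩ : ∃ e ∈ W, e ≠ 0 ∧ H.h e e = 0 := by
    haveI : Nontrivial W := Module.nontrivial_of_finrank_pos (R := F) (by omega)
    obtain ⟨⟨x, hxW⟩, hx0⟩ := exists_ne (0 : W)
    by_cases hxx : H.h x x = 0
    · exact ⟨x, hxW, fun h => hx0 (Subtype.ext h), hxx⟩
    obtain ⟨⟨y, hyW⟩, hy⟩ : ∃ y : W, ¬ ∃ a : F, a • (⟨x, hxW⟩ : W) = y := by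
      by_contra! hall
      have := finrank_le_one (⟨x, hxW⟩ : W) hall
      omega
    set y' := y - (H.h y x / H.h x x) • x with hy'
    have hy'x : H.h y' x = 0 := by rw [hy', H.sub_left, H.smul_left, div_mul_cancel₀ _ hxx, sub_self]
    have hy'0 : y' ≠ 0 := fun h => hy ⟨_, Subtype.ext (sub_eq_zero.1 h).symm⟩
    obtain ⟨a, ha⟩ := H.conj.norm_surjective (a := -(H.h y' y' / H.h x x))
      (by rw [map_neg, map_div₀, H.self_fixed, H.self_fixed])
    refine ⟨y' + a • x, add_mem (sub_mem hyW (W.smul_mem _ hxW)) (W.smul_mem _ hxW), fun h => ?_, ?_⟩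
    · have h1 := congrArg (fun t => H.h t x) h
      simp only [H.add_left, H.smul_left, hy'x, zero_add, H.zero_left, mul_eq_zero, or_iff_left hxx] at h1
      rw [h1, zero_smul, add_zero] at h
      exact hy'0 h
    · rw [H.add_left, H.add_right, H.add_right, H.smul_left, H.smul_left, H.smul_right,
        H.smul_right, hy'x, H.eq_zero_symm hy'x]
      have : a * H.σ a * H.h x x = -H.h y' y' := by rw [ha]; field_simp
      linear_combination this
  obtain ⟨f₀, hf₀⟩ := H.exists_hyperbolic he0 hee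
  obtain ⟨f, hf⟩ : ∃ f, f = f₀ - (H.h f₀ u / H.h u u) • u := ⟨_, rfl⟩
  have hfW : f ∈ W := (hWmem _).2 (by rw [hf, H.sub_left, H.smul_left, div_mul_cancel₀ _ huu, sub_self])
  have heu : H.h e u = 0 := (hWmem _).1 heW
  have hef : H.h e f = 1 := by rw [hf, H.sub_right, hf₀.1, H.smul_right, heu, mul_zero, sub_zero]
  obtain ⟨θ, hθ⟩ := H.conj.exists_trace_one
  obtain ⟨f', hf'⟩ : ∃ f', f' = f - (θ * H.h f f) • e := ⟨_, rfl⟩
  have hf'W : f' ∈ W := by rw [hf']; exact sub_mem hfW (W.smul_mem _ heW)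
  have hef' : H.h e f' = 1 := by rw [hf', H.sub_right, H.smul_right, hee, mul_zero, sub_zero, hef]
  have hff' : H.h f' f' = 0 := by
    rw [hf', H.sub_left, H.sub_right, H.sub_right, H.smul_left, H.smul_left, H.smul_right,
      H.smul_right, hee, hef, H.symm f e, hef, map_one, map_mul, H.self_fixed]
    linear_combination (-H.h f f) * hθ
  let B : Frame H := ⟨e, w, f', hee, hff', hef', hww,
    by rw [hw, H.smul_left, H.eq_zero_symm heu, mul_zero],
    by rw [hw, H.smul_left, H.eq_zero_symm ((hWmem _).1 hf'W), mul_zero]⟩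
  set ME : V := (De'.symm ⟨e, heW⟩ : V) with hME
  set MF : V := (De'.symm ⟨f', hf'W⟩ : V) with hMF
  have hMW : ∀ z : W, H.h (De'.symm z : V) w = 0 := fun z => by
    rw [hw, H.smul_right, (hWmem _).1 (De'.symm z).2, mul_zero]
  obtain ⟨ε, hε0, hε⟩ := H.conj.exists_skew
  have hσε : H.σ ε = -ε := by linear_combination hε
  have k1 : H.h ME e = 0 := hgood' ⟨e, heW⟩ hee
  have k2 : H.h MF f' = 0 := hgood' ⟨f', hf'W⟩ hff'
  have k3 : H.h MF e = H.h ME f' := by
    have hcomb : De'.symm (⟨e, heW⟩ + ε • ⟨f', hf'W⟩) =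
        De'.symm ⟨e, heW⟩ + ε • De'.symm ⟨f', hf'W⟩ := by rw [map_add, map_smul]
    have h1 := hgood' (⟨e, heW⟩ + ε • ⟨f', hf'W⟩) (by
      show H.h (e + ε • f') (e + ε • f') = 0
      simp [H.add_left, H.add_right, H.smul_left, H.smul_right, hee, hff', hef', B.fe, hσε]
      rw [show H.h f' e = 1 from B.fe]
      ring)
    rw [hcomb] at h1
    change H.h (ME + ε • MF) (e + ε • f') = 0 at h1
    simp [H.add_left, H.add_right, H.smul_left, H.smul_right, k1, k2, hσε] at h1
    have h2 : ε * (H.h MF e - H.h ME f') = 0 := by linear_combination h1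
    exact sub_eq_zero.1 ((mul_eq_zero.1 h2).resolve_left hε0)
  set k := H.h ME f' with hk
  have eE : ME = k • e := ext_frame hd B
    (by show H.h ME e = H.h (k • e) e; rw [k1, H.smul_left, hee, mul_zero])
    (by show H.h ME w = H.h (k • e) w; rw [hMW, H.smul_left, B.ew, mul_zero])
    (by show H.h ME f' = H.h (k • e) f'; rw [H.smul_left, hef', mul_one])
  have eF : MF = k • f' := ext_frame hd B
    (by show H.h MF e = H.h (k • f') e; rw [k3, H.smul_left, show H.h f' e = 1 from B.fe, mul_one])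
    (by show H.h MF w = H.h (k • f') w; rw [hMW, H.smul_left, show H.h f' w = 0 from B.fw, mul_zero])
    (by show H.h MF f' = H.h (k • f') f'; rw [k2, H.smul_left, hff', mul_zero])
  have hk0 : k ≠ 0 := fun h => by
    have h1 := hM' ⟨e, heW⟩
    rw [← hME, eE, h, zero_smul, map_zero, sub_zero] at h1
    exact he0 h1.symm
  set a := (1 + k) / k with ha
  have hge : g'.1.1 e = a • e := by
    have h1 := hM' ⟨e, heW⟩
    rw [← hME, eE, map_smul, sub_eq_iff_eq_add] at h1
    calc g'.1.1 e = k⁻¹ • (k • g'.1.1 e) := by rw [inv_smul_smul₀ hk0]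
      _ = k⁻¹ • (e + k • e) := by rw [h1]
      _ = a • e := by rw [smul_add, smul_smul, ← add_smul, ha]; congr 1; field_simp
  have hgf : g'.1.1 f' = a • f' := by
    have h1 := hM' ⟨f', hf'W⟩
    rw [← hMF, eF, map_smul, sub_eq_iff_eq_add] at h1
    calc g'.1.1 f' = k⁻¹ • (k • g'.1.1 f') := by rw [inv_smul_smul₀ hk0]
      _ = k⁻¹ • (f' + k • f') := by rw [h1]
      _ = a • f' := by rw [smul_add, smul_smul, ← add_smul, ha]; congr 1; field_simp
  have hgw : g'.1.1 w = w := by rw [hw, map_smul, hfix]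
  have ha2 : a * a = 1 := by
    have h1 := det_one g'
    rw [det_frame hd B, Matrix.det_fin_three] at h1
    simp [B, hge, hgf, hgw, H.smul_left, hee, hff', hef', hww] at h1
    rw [show H.h f' e = 1 from B.fe, show H.h w f' = 0 from B.wf, show H.h w e = 0 from B.we,
      show H.h e w = 0 from B.ew, show H.h f' w = 0 from B.fw] at h1
    linear_combination h1
  have hinv : g' * g' = 1 := by
    refine H.sisom_ext fun x => ?_
    show g'.1.1 (g'.1.1 x) = x
    rw [decomp hd B x]
    simp [B, map_add, map_smul, hge, hgf, hgw, smul_smul, mul_assoc, ha2]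
  obtain ⟨v₀, c₀, hv₀, hc₀, hv₀0, hc₀0, hTeq⟩ := hT
  refine ⟨2, Or.inr rfl, T, g' * T * g'⁻¹, T, ⟨v₀, c₀, hv₀, hc₀, hv₀0, hc₀0, hTeq⟩,
    ⟨g'.1.1 v₀, c₀, by rw [H.map_form, hv₀], hc₀, H.isom_ne_zero g'.1 hv₀0, hc₀0,
      by rw [hTeq, H.sT_conj g' hv₀ hc₀]⟩,
    ⟨v₀, c₀, hv₀, hc₀, hv₀0, hc₀0, hTeq⟩, ?_⟩
  have hi : g'⁻¹ = g' := inv_eq_of_mul_eq_one_right hinv
  have : g ^ 2 = T * (g' * T * g'⁻¹) := by rw [pow_two, hg, hi]; simp [mul_assoc]
  rw [this]
  exact mul_mem (hTmem _ _ _).1 (hTmem _ _ _).2.1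

theorem tr_conj {x y : H.SIsom} (hx : IsTr H x) (hy : IsTr H y) :
    ∃ g : H.SIsom, g * x * g⁻¹ = y := by
  obtain ⟨v, c, hv, hc, hv0, hc0, rfl⟩ := hx
  obtain ⟨v', c', hv', hc', hv'0, hc'0, rfl⟩ := hy
  obtain ⟨a, ha⟩ := H.conj.norm_surjective (a := c / c') (by
    rw [map_div₀]
    have h1 : H.σ c = -c := by linear_combination hc
    have h2 : H.σ c' = -c' := by linear_combination hc'
    rw [h1, h2, neg_div_neg_eq])
  have ha0 : a ≠ 0 := fun h => by
    rw [h, zero_mul] at ha
    exact div_ne_zero hc0 hc'0 ha.symm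
  -- send `a • v` to `v'`
  set x := a • v with hx
  have hxx : H.h x x = 0 := by rw [hx, H.smul_left, H.smul_right, hv, mul_zero, mul_zero]
  have hx0 : x ≠ 0 := smul_ne_zero ha0 hv0
  obtain ⟨B, hB⟩ := exists_frame hd hx0 hxx
  obtain ⟨B', hB'⟩ := exists_frame hd hv'0 hv'
  let f : V →ₗ[F] V :=
    (H.lin B.f).smulRight B'.e + (H.lin B.w).smulRight B'.w + (H.lin B.e).smulRight B'.f
  have hf : ∀ z, f z = H.h z B.f • B'.e + H.h z B.w • B'.w + H.h z B.e • B'.f := fun z => rfl
  have hform : ∀ z z', H.h (f z) (f z') = H.h z z' := by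
    intro z z'
    conv_rhs => rw [decomp hd B z, decomp hd B z']
    simp [hf, H.add_left, H.add_right, H.smul_left, H.smul_right, B.ee, B.ew, B.ef, B.we, B.ww,
      B.wf, B.fe, B.fw, B.ff, B'.ee, B'.ew, B'.ef, B'.we, B'.ww, B'.wf, B'.fe, B'.fw, B'.ff]
  have hfi : Function.Injective f := by
    intro z z' h
    refine sub_eq_zero.1 (H.nondeg _ fun t => ?_)
    rw [← hform t (z - z'), map_sub, h, sub_self, H.zero_right]
  let gI : H.Isom := ⟨LinearEquiv.ofInjectiveEndo f hfi, hform⟩
  have hgI : gI.1 x = v' := by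
    show f x = v'
    rw [hf, ← hB, B.ef, B.ew, B.ee, one_smul, zero_smul, zero_smul, add_zero, add_zero, hB']
  obtain ⟨ζ, hζ⟩ := H.exists_SIsom_correct gI B'.ww
  refine ⟨⟨_, hζ⟩, ?_⟩
  have himg : (H.qrefl B'.ww ζ * gI).1 x = v' := by
    rw [HermSpace.mul_apply', hgI, H.qrefl_orth B'.ww ζ (by rw [← hB']; exact B'.ew)]
  have himgv : (H.qrefl B'.ww ζ * gI).1 v = a⁻¹ • v' := by
    rw [← himg, hx, map_smul, inv_smul_smul₀ ha0]
  rw [H.sT_conj]
  refine H.sisom_ext fun z => ?_
  rw [H.sT_apply, H.sT_apply, himgv, H.smul_right, smul_smul]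
  congr 2
  rw [map_inv₀]
  have hσa : H.σ a ≠ 0 := (map_ne_zero H.σ).2 ha0
  field_simp
  field_simp at ha
  linear_combination (-H.h z v') * ha

/-- A central element of a Sylow `p`-subgroup is a transvection. -/
theorem central_isTr {p : ℕ} [Fact p.Prime] [CharP F p] (P : Sylow p H.SIsom) {z : H.SIsom}
    (hz : z ∈ (P : Subgroup H.SIsom)) (hz1 : z ≠ 1)
    (hc : ∀ y ∈ (P : Subgroup H.SIsom), z * y = y * z) : IsTr H z := by
  classical
  haveI : Nontrivial V := Module.nontrivial_of_finrank_pos (R := F) (by omega)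
  haveI : Finite V := Module.finite_of_finite F
  have hp : p.Prime := Fact.out
  letI : MulAction P V :=
    { smul := fun y x => (y : H.SIsom).1.1 x
      one_smul := fun x => rfl
      mul_smul := fun a b x => rfl }
  have hcard : ∀ S : Submodule F V, 0 < Module.finrank F S → p ∣ Nat.card S := by
    intro S hS
    rw [Module.natCard_eq_pow_finrank (K := F)]
    refine dvd_pow ?_ hS.ne'
    haveI := Fintype.ofFinite F
    obtain ⟨n, -, hn⟩ := FiniteField.card F p
    rw [Nat.card_eq_fintype_card, hn]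
    exact dvd_pow_self p n.ne_zero
  have hfix : ∀ S : Submodule F V, 0 < Module.finrank F S →
      (∀ (y : P) (x : V), x ∈ S → y • x ∈ S) → ∃ x ∈ S, x ≠ 0 ∧ ∀ y : P, y • x = x := by
    intro S hS hinv
    letI : MulAction P S :=
      { smul := fun y x => ⟨y • (x : V), hinv y x x.2⟩
        one_smul := fun x => Subtype.ext (one_smul P (x : V))
        mul_smul := fun a b x => Subtype.ext (mul_smul a b (x : V)) }
    have h0 : (0 : S) ∈ MulAction.fixedPoints P S := fun y =>
      Subtype.ext (map_zero (y : H.SIsom).1.1)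
    obtain ⟨x, hx, hx0⟩ := P.2.exists_fixed_point_of_prime_dvd_card_of_fixed_point S (hcard S hS) h0
    exact ⟨x, x.2, fun h => hx0.symm (Subtype.ext h), fun y => congrArg Subtype.val (hx y)⟩
  obtain ⟨v, hv0, hvv, hvfix⟩ : ∃ v : V, v ≠ 0 ∧ H.h v v = 0 ∧ ∀ y : P, y • v = v := by
    obtain ⟨x, -, hx0, hx⟩ := hfix ⊤ (by rw [finrank_top]; omega) (fun _ _ _ => trivial)
    by_cases hxx : H.h x x = 0
    · exact ⟨x, hx0, hxx, hx⟩
    set S := H.orth (Submodule.span F ({x} : Set V)) with hS
    have hSmem : ∀ t, t ∈ S ↔ H.h t x = 0 := fun t => by rw [hS, H.mem_orth_span]; simp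
    obtain ⟨y, hyS, hy0, hy⟩ := hfix S (by
      have := H.finrank_orth (Submodule.span F ({x} : Set V))
      rw [finrank_span_singleton hx0] at this
      rw [hS]; omega) (fun g t ht => by
        rw [hSmem] at ht ⊢
        conv_lhs => arg 3; rw [← hx g]
        exact (H.map_form (g : H.SIsom).1 t x).trans ht)
    have hyx := (hSmem y).1 hyS
    obtain ⟨a, ha⟩ := H.conj.norm_surjective (a := -(H.h y y / H.h x x))
      (by rw [map_neg, map_div₀, H.self_fixed, H.self_fixed])
    refine ⟨y + a • x, fun h => ?_, ?_, fun g => ?_⟩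
    · have h1 := congrArg (fun t => H.h t x) h
      simp only [H.add_left, H.smul_left, hyx, zero_add, H.zero_left, mul_eq_zero, or_iff_left hxx] at h1
      rw [h1, zero_smul, add_zero] at h
      exact hy0 h
    · rw [H.add_left, H.add_right, H.add_right, H.smul_left, H.smul_left, H.smul_right,
        H.smul_right, hyx, H.eq_zero_symm hyx]
      have : a * H.σ a * H.h x x = -H.h y y := by rw [ha]; field_simp
      linear_combination this
    · show (g : H.SIsom).1.1 (y + a • x) = _
      rw [map_add, map_smul, show (g : H.SIsom).1.1 y = y from hy g,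
        show (g : H.SIsom).1.1 x = x from hx g]
  let U : Subgroup H.SIsom :=
    { carrier := {g | g.1.1 v = v}
      mul_mem' := fun {a b} ha hb => by show a.1.1 (b.1.1 v) = v; rw [hb]; exact ha
      one_mem' := rfl
      inv_mem' := fun {a} ha => by
        show ((a.1)⁻¹ : H.Isom).1 v = v
        conv_lhs => rw [← ha]
        rw [H.inv_apply_self] }
  obtain ⟨B, hB⟩ := exists_frame hd hv0 hvv
  subst hB
  -- the stabiliser is unipotent
  have hU : IsPGroup p U := by
    rintro ⟨g, hg⟩
    have hge : g.1.1 B.e = B.e := hg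
    have hwe : H.h (g.1.1 B.w) B.e = 0 := by
      conv_lhs => arg 3; rw [← hge]
      rw [H.map_form, B.we]
    have hfe : H.h (g.1.1 B.f) B.e = 1 := by
      conv_lhs => arg 3; rw [← hge]
      rw [H.map_form, B.fe]
    have hβ : H.h (g.1.1 B.w) B.w = 1 := by
      have h1 := det_one g
      rw [det_frame hd B, Matrix.det_fin_three] at h1
      simpa [hge, B.ef, B.ew, B.ee, hwe, hfe] using h1
    let D : Module.End F V := g.1.1.toLinearMap - 1
    have hD3 : D ^ 3 = 0 := by
      have hDe : D B.e = 0 := sub_eq_zero.2 hge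
      have hDw : D B.w = H.h (g.1.1 B.w) B.f • B.e := by
        show g.1.1 B.w - B.w = _
        conv_lhs => arg 1; rw [decomp hd B (g.1.1 B.w), hβ, hwe]
        simp
      have hDf : D B.f = H.h (g.1.1 B.f) B.f • B.e + H.h (g.1.1 B.f) B.w • B.w := by
        show g.1.1 B.f - B.f = _
        conv_lhs => arg 1; rw [decomp hd B (g.1.1 B.f), hfe]
        simp
      refine LinearMap.ext fun x => ?_
      show D (D (D x)) = 0
      rw [decomp hd B x]
      simp [map_add, map_smul, hDe, hDw, hDf]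
    haveI : CharP (Module.End F V) p :=
      charP_of_injective_algebraMap (algebraMap F (Module.End F V)).injective p
    refine ⟨2, Subtype.ext ?_⟩
    rw [Subgroup.coe_pow, Subgroup.coe_one]
    refine H.sisom_ext fun x => ?_
    have h1 : (g.1.1.toLinearMap : Module.End F V) ^ p ^ 2 = 1 := by
      have h2 : ((g.1.1.toLinearMap : Module.End F V) - 1) ^ p ^ 2 = 0 :=
        pow_eq_zero_of_le (by nlinarith [hp.two_le]) hD3
      rw [sub_pow_char_pow_of_commute _ _ (Commute.one_right _), one_pow, sub_eq_zero] at h2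
      exact h2
    have h3 : ∀ m : ℕ, ∀ x, ((g ^ m : H.SIsom)).1.1 x = ((g.1.1.toLinearMap : Module.End F V) ^ m) x := by
      intro m
      induction m with
      | zero => intro x; rfl
      | succ m ih =>
        intro x
        rw [pow_succ, pow_succ]
        show (g ^ m).1.1 (g.1.1 x) = _
        rw [ih]
        rfl
    rw [h3, h1]
    rfl
  have hPU : U = (P : Subgroup H.SIsom) := P.3 hU fun y hy => hvfix ⟨y, hy⟩
  have hze : z.1.1 B.e = B.e := hvfix ⟨z, hz⟩
  -- `z` fixes `w`
  set γ := H.h (z.1.1 B.w) B.f with hγ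
  have hwe : H.h (z.1.1 B.w) B.e = 0 := by
    conv_lhs => arg 3; rw [← hze]
    rw [H.map_form, B.we]
  have hfe : H.h (z.1.1 B.f) B.e = 1 := by
    conv_lhs => arg 3; rw [← hze]
    rw [H.map_form, B.fe]
  have hβ : H.h (z.1.1 B.w) B.w = 1 := by
    have h1 := det_one z
    rw [det_frame hd B, Matrix.det_fin_three] at h1
    simpa [hze, B.ef, B.ew, B.ee, hwe, hfe] using h1
  have hzw : z.1.1 B.w = B.w + γ • B.e := by
    rw [decomp hd B (z.1.1 B.w), hβ, hwe, zero_smul, one_smul, add_zero, ← hγ, add_comm]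
  set α := H.h (z.1.1 B.f) B.w with hα
  have hzf : z.1.1 B.f = B.f + α • B.w + H.h (z.1.1 B.f) B.f • B.e := by
    conv_lhs => rw [decomp hd B (z.1.1 B.f), hfe, ← hα, one_smul]
    abel
  obtain ⟨β', hzf⟩ : ∃ β', z.1.1 B.f = B.f + α • B.w + β' • B.e := ⟨_, hzf⟩
  have hγα : γ + H.σ α = 0 := by
    have h1 := H.map_form z.1 B.w B.f
    rw [B.wf, hzw, hzf] at h1
    simpa [H.add_left, H.add_right, H.smul_left, H.smul_right, B.ww, B.ew, B.ee, B.wf, B.ef,
      B.we, add_comm] using h1
  obtain ⟨θ, hθ⟩ := H.conj.exists_trace_one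
  obtain ⟨l, hl⟩ := H.conj.ne_id
  have hcomm : ∀ μ : F, μ * γ = -(α * H.σ μ) := by
    intro μ
    set a := -(μ * H.σ μ) * θ with ha
    have hwv : H.h (μ • B.w) B.e = 0 := by rw [H.smul_left, B.we, mul_zero]
    have hae : a + H.σ a = -H.h (μ • B.w) (μ • B.w) := by
      rw [H.smul_left, H.smul_right, B.ww, mul_one, ha, map_mul, map_neg, H.conj.norm_mem]
      linear_combination (-(μ * H.σ μ)) * hθ
    let S : H.SIsom := ⟨H.siegel B.ee hwv hae, H.siegel_mem_SIsom _ _ _⟩
    have hS : ∀ x, S.1.1 x = x + H.h x B.e • (μ • B.w) + (a * H.h x B.e - H.h x (μ • B.w)) • B.e :=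
      fun x => H.siegel_apply B.ee hwv hae x
    have hSU : S ∈ (P : Subgroup H.SIsom) := by
      rw [← hPU]
      show S.1.1 B.e = B.e
      simp [hS, B.ee, H.smul_right, B.ew]
    have h1 := congrArg (fun t : H.SIsom => t.1.1 B.f) (hc S hSU)
    have hl' : z.1.1 (S.1.1 B.f) = S.1.1 (z.1.1 B.f) := h1
    have hl2 := congrArg (fun t => H.h t B.f) hl'
    simp only [hS, hzf, hzw, hze, map_add, map_smul, H.add_left, H.smul_left, H.smul_right,
      B.fe, B.fw, B.ff, B.we, B.ww, B.wf, B.ee, B.ew, B.ef, mul_zero, zero_mul, add_zero, zero_add,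
      mul_one, one_mul, sub_zero] at hl2
    linear_combination hl2
  have hα0 : α = 0 := by
    have h1 := hcomm 1
    have h2 := hcomm l
    rw [map_one, one_mul, mul_one] at h1
    rw [h1] at h2
    have h3 : α * (H.σ l - l) = 0 := by linear_combination h2
    exact (mul_eq_zero.1 h3).resolve_right (sub_ne_zero.2 hl)
  rw [hα0, map_zero, add_zero] at hγα
  have hli : LinearIndependent F ![B.e, B.w] := by
    refine (LinearIndependent.pair_iff' B.e_ne).2 fun a ha => ?_
    have h1 := congrArg (fun t => H.h t B.w) ha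
    simp [H.smul_left, B.ew, B.ww] at h1
  rcases fix_two hd z hli hze (by rw [hzw, hγα, zero_smul, add_zero]) with e | e
  · exact absurd e hz1
  · exact e

end Cfsg.Lib.Components.UnitaryThree
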