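import Cfsg.Agent.Components.Module.IndexBound
import Cfsg.Agent.Suz.Lie
import Cfsg.Agent.Suz.Partition
import Cfsg.Agent.Suz.Small

/-!
The bound on the index of fixed spaces for groups with a Suzuki quotient: every element of a
Zsigmondy prime order dividing `q² + 1` is a product of two involutions.
-/

set_option linter.unusedSectionVars false
set_option linter.style.haveILetI false

namespace Cfsg.Lib.Components.IndexBoundSuz

open Cfsg.Lib.Suz

variable {F : Type*} [Field F] [Fintype F] {m : ℕ} (Q : Par F m)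
include Q

theorem involution_conj {x : Cfsg.Sz F m} (hx : orderOf x = 2) :
    ∃ c : Cfsg.Sz F m, c * x * c⁻¹ = uu Q 0 1 := by
  haveI : Fact (Nat.Prime 2) := ⟨Nat.prime_two⟩
  obtain ⟨P, hP⟩ := (IsPGroup.of_card (p := 2) (n := 1)
    (by rw [Nat.card_zpowers, hx, pow_one]) : IsPGroup 2 (Subgroup.zpowers x)).exists_le_sylow
  obtain ⟨c, hc⟩ := exists_conj Q P
  obtain ⟨a, b, hab⟩ := exists_uu Q ((hc x).1 (hP (Subgroup.mem_zpowers x)))
  have h2 : (c * x * c⁻¹) ^ 2 = 1 := by rw [conj_pow, ← hx, pow_orderOf_eq_one]; group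
  have ha : a = 0 := by
    rw [hab, uu_sq, ← uu_zero Q] at h2
    exact pow_eq_zero_iff (Nat.succ_ne_zero _) |>.1 (uu_inj Q h2).2
  have hb : b ≠ 0 := fun hb => by
    rw [ha, hb, uu_zero, conj_eq_one_iff] at hab
    rw [hab, orderOf_one] at hx
    omega
  obtain ⟨k, hk⟩ := exists_s1_root Q (Units.mk0 b hb)⁻¹
  refine ⟨hI Q k * c, ?_⟩
  have hk' : (k : F) ^ (2 ^ (m + 1) + 1) * b = 1 := by
    have h1 := congrArg Units.val hk
    rw [Units.val_pow_eq_pow_val] at h1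
    rw [h1]
    simp [hb]
  calc hI Q k * c * x * (hI Q k * c)⁻¹ = hI Q k * (c * x * c⁻¹) * (hI Q k)⁻¹ := by group
    _ = uu Q 0 1 := by rw [hab, hI_conj_uu, ha, mul_zero, hk']

theorem exists_product {r : ℕ} (hr : r.Prime) (hd : r ∣ (2 ^ (2 * m + 1)) ^ 2 + 1)
    {s : Cfsg.Sz F m} (hs : orderOf s = 2) :
    ∃ g : Cfsg.Sz F m, r ∣ orderOf (s * (g * s * g⁻¹)) := by
  haveI : Fact r.Prime := ⟨hr⟩
  haveI : Fact (Nat.Prime 2) := ⟨Nat.prime_two⟩
  set q := 2 ^ (2 * m + 1) with hq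
  set e := 2 ^ (m + 1) with he
  have hee : e * e = 2 * q := by rw [hq, he, ← pow_add, ← pow_succ']; congr 1; omega
  have hle : e ≤ q := Nat.pow_le_pow_right two_pos (by omega)
  obtain ⟨k, hk, hrk⟩ : ∃ k, k ∈ ({q + e + 1, q - e + 1} : Set ℕ) ∧ r ∣ k := by
    have hmul : (q + e + 1) * (q - e + 1) = q ^ 2 + 1 := by
      obtain ⟨d, hd'⟩ : ∃ d, q = e + d := ⟨q - e, by omega⟩
      rw [hd', Nat.add_sub_cancel_left]
      nlinarith
    rcases hr.dvd_mul.1 (hmul ▸ hd) with h | h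
    · exact ⟨_, Or.inl rfl, h⟩
    · exact ⟨_, Or.inr rfl, h⟩
  have hkodd : Odd k := by
    have hqe : Even q := by rw [hq]; exact (Nat.even_pow.2 ⟨even_two, by omega⟩)
    have hee' : Even e := by rw [he]; exact (Nat.even_pow.2 ⟨even_two, by omega⟩)
    rcases hk with rfl | rfl
    · exact Even.add_one (hqe.add hee')
    · exact Even.add_one ((Nat.even_sub hle).2 ⟨fun _ => hee', fun _ => hqe⟩)
  obtain ⟨U, hUc, hUk, hUC, hUN⟩ := tori Q k hk
  obtain ⟨⟨u, huU⟩, hu⟩ := exists_prime_orderOf_dvd_card' (G := U) r (hUk ▸ hrk)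
  rw [Subgroup.orderOf_mk] at hu
  have hu1 : u ≠ 1 := fun h => by rw [h, orderOf_one] at hu; exact hr.one_lt.ne hu
  set N := Subgroup.normalizer (U : Set (Cfsg.Sz F m))
  obtain ⟨⟨w, hwN⟩, hw⟩ := exists_prime_orderOf_dvd_card' (G := N) 2
    (hUN ▸ dvd_mul_of_dvd_left (by norm_num) k)
  rw [Subgroup.orderOf_mk] at hw
  have hwU : w ∉ U := fun h => by
    have h1 : orderOf (⟨w, h⟩ : U) ∣ Nat.card U := orderOf_dvd_natCard _
    rw [Subgroup.orderOf_mk, hw, hUk] at h1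
    exact Nat.not_even_iff_odd.2 hkodd (even_iff_two_dvd.2 h1)
  have hww : w * w = 1 := by rw [← pow_two, ← hw, pow_orderOf_eq_one]
  have hwi : w⁻¹ = w := inv_eq_of_mul_eq_one_right hww
  have hwuU : w * u * w⁻¹ ∈ U := (Subgroup.mem_normalizer_iff.1 hwN u).1 huU
  haveI := hUc
  have hcomm : u * (w * u * w⁻¹) = (w * u * w⁻¹) * u := by
    haveI : IsMulCommutative U := IsCyclic.isMulCommutative
    exact congrArg Subtype.val
      ((IsMulCommutative.is_comm (M := U)).comm ⟨u, huU⟩ ⟨_, hwuU⟩)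
  have hinv : u * (w * u * w⁻¹) = 1 := by
    by_contra hne
    have hC := hUC _ (mul_mem huU hwuU) hne
    refine hwU (hC ▸ Subgroup.mem_centralizer_singleton_iff.2 ?_)
    calc w * (u * (w * u * w⁻¹)) = w * u * w⁻¹ * (w * w) * u * w⁻¹ := by group
      _ = (w * u * w⁻¹) * u * w⁻¹ := by rw [hww, mul_one]
      _ = u * (w * u * w⁻¹) * w⁻¹ := by rw [hcomm]
      _ = u * (w * u * w⁻¹) * w := by rw [hwi]
  have hwu : orderOf (w * u) = 2 := by
    refine orderOf_eq_prime ?_ fun h => hwU (by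
      rw [mul_eq_one_iff_eq_inv.1 h]
      exact inv_mem huU)
    rw [pow_two]
    rw [hwi] at hinv
    calc w * u * (w * u) = w * (u * (w * u * w)) * w⁻¹ := by group
      _ = 1 := by rw [hinv]; group
  obtain ⟨c, hc⟩ := involution_conj Q hw
  obtain ⟨d, hd'⟩ := involution_conj Q hwu
  obtain ⟨a, ha⟩ := involution_conj Q hs
  have es : s = a⁻¹ * uu Q 0 1 * a := by rw [← ha]; group
  have ew : w = c⁻¹ * uu Q 0 1 * c := by rw [← hc]; group
  have ewu : w * u = d⁻¹ * uu Q 0 1 * d := by rw [← hd']; group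
  refine ⟨a⁻¹ * c * d⁻¹ * a, ?_⟩
  have hkey : (c⁻¹ * a) * (s * ((a⁻¹ * c * d⁻¹ * a) * s * (a⁻¹ * c * d⁻¹ * a)⁻¹)) * (c⁻¹ * a)⁻¹
      = u := by
    calc _ = (c⁻¹ * uu Q 0 1 * c) * (d⁻¹ * uu Q 0 1 * d) := by rw [es]; group
      _ = u := by rw [← ew, ← ewu, ← mul_assoc, hww, one_mul]
  rw [← MulEquiv.orderOf_eq (MulAut.conj (c⁻¹ * a)), MulAut.conj_apply, hkey, hu]

theorem central_involution (P : Sylow 2 (Cfsg.Sz F m)) {x : Cfsg.Sz F m}
    (hx : x ∈ (P : Subgroup (Cfsg.Sz F m))) (hx1 : x ≠ 1)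
    (hc : ∀ y ∈ (P : Subgroup (Cfsg.Sz F m)), x * y = y * x) : orderOf x = 2 := by
  haveI : Fact (Nat.Prime 2) := ⟨Nat.prime_two⟩
  obtain ⟨c, hP⟩ := exists_conj Q P
  obtain ⟨a, b, hab⟩ := exists_uu Q ((hP x).1 hx)
  have hcen : (⟨uu Q a b, uu_mem Q a b⟩ : uSub Q) ∈ Subgroup.center (uSub Q) := by
    refine Subgroup.mem_center_iff.2 fun y => Subtype.ext ?_
    have hy : c⁻¹ * (y : Cfsg.Sz F m) * c ∈ (P : Subgroup (Cfsg.Sz F m)) := (hP _).2 (by
      rw [show c * (c⁻¹ * (y : Cfsg.Sz F m) * c) * c⁻¹ = y by group]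
      exact y.2)
    rw [Subgroup.coe_mul, Subgroup.coe_mul]
    show (y : Cfsg.Sz F m) * uu Q a b = uu Q a b * (y : Cfsg.Sz F m)
    rw [← hab]
    have h1 := hc _ hy
    calc (y : Cfsg.Sz F m) * (c * x * c⁻¹) = c * ((c⁻¹ * (y : Cfsg.Sz F m) * c) * x) * c⁻¹ := by group
      _ = c * (x * (c⁻¹ * (y : Cfsg.Sz F m) * c)) * c⁻¹ := by rw [h1]
      _ = (c * x * c⁻¹) * (y : Cfsg.Sz F m) := by group
  have ha := (mem_center_iff Q).1 hcen
  refine orderOf_eq_prime ?_ hx1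
  rw [← conj_eq_one_iff (a := c), ← conj_pow, hab, uu_sq, ha, zero_pow (Nat.succ_ne_zero _), uu_zero]

end Cfsg.Lib.Components.IndexBoundSuz
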